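import Mathlib

/-!
The facts on a Sylow 2-subgroup of `PSU(6, 2)` and its elementary abelian subgroup of order 512 that
are used in a double cover.
-/

set_option autoImplicit false

namespace Cfsg.Agent.ThreeTransp.U62Cover

/-- The sizes of the three classes of non-trivial elements in the large elementary abelian
subgroup. -/
def classSize : Fin 3 → ℕ := ![21, 210, 280]

/-- The facts used on the simple quotient. -/
structure Data (Q : Type*) [Group Q] where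
  /-- the elementary abelian subgroup -/
  E : Subgroup Q
  /-- a Sylow 2-subgroup -/
  S : Subgroup Q
  /-- first root part -/
  B₁ : Subgroup Q
  /-- second root part -/
  B₂ : Subgroup Q
  /-- the classes inside `E` -/
  O : Fin 3 → Set Q
  E_le : E ≤ S
  E_sq : ∀ x ∈ E, x * x = 1
  E_card : Nat.card E = 512
  S_card : Nat.card S = 2 ^ 15
  S_odd : ¬ 2 ∣ S.index
  max : ∀ B : Subgroup Q, B ≤ S → (∀ x ∈ B, x * x = 1) → 512 ≤ Nat.card B → B = E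
  conj_into : ∀ x : Q, x * x = 1 → ∃ g : Q, g * x * g⁻¹ ∈ E
  O_sub : ∀ i, ∀ x ∈ O i, x ∈ E ∧ x ≠ 1
  O_cover : ∀ x ∈ E, x ≠ 1 → ∃ i, x ∈ O i
  O_card : ∀ i, (O i).ncard = classSize i
  O_disj : ∀ i j, i ≠ j → Disjoint (O i) (O j)
  O_trans : ∀ i, ∀ x ∈ O i, ∀ y ∈ O i, ∃ g : Q, (∀ z ∈ E, g * z * g⁻¹ ∈ E) ∧ g * x * g⁻¹ = y
  O_sq : ∀ i, i ≠ 2 → ∀ x ∈ O i, ∃ g : Q, g * g = x
  B₁_conj : ∃ g : Q, ∀ x ∈ B₁, g * x * g⁻¹ ∈ E
  B₂_conj : ∃ g : Q, ∀ x ∈ B₂, g * x * g⁻¹ ∈ E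
  B_norm : ∀ b ∈ B₁, ∀ x ∈ B₂, b * x * b⁻¹ ∈ B₂
  B₁_norm : ∀ b ∈ B₁, ∀ x ∈ E, b * x * b⁻¹ ∈ E
  B₂_norm : ∀ b ∈ B₂, ∀ x ∈ E, b * x * b⁻¹ ∈ E
  B_card : Nat.card B₁ * Nat.card B₂ = 64
  B_gen : S ≤ E ⊔ B₂ ⊔ B₁

end Cfsg.Agent.ThreeTransp.U62Cover
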