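import Cfsg.Prelude.Def_Transfer
import Cfsg.Agent.Lib.ThreeTransp.U62Cover.Data

/-!
The preimage of the large elementary abelian subgroup in the centraliser of an involution with
quotient `PSU(6, 2)`.
-/

set_option autoImplicit false
set_option linter.unusedSectionVars false
set_option linter.style.haveILetI false

namespace Cfsg.Agent.ThreeTransp.U62Cover

variable {G Q : Type*} [Group G] [Finite G] [Group Q] {C : Subgroup G}

/-- The standing hypotheses. -/
structure Cover (C : Subgroup G) (Q : Type*) [Group Q] where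
  /-- the involution -/
  d : G
  /-- the projection -/
  f : ↥C →* Q
  /-- the data of the quotient -/
  D : Data Q
  d_sq : d * d = 1
  d_ne : d ≠ 1
  mem : ∀ g : G, g ∈ C ↔ g * d = d * g
  surj : Function.Surjective f
  ker : ∀ c : ↥C, f c = 1 ↔ c = 1 ∨ (c : G) = d
  not_sq : ¬ ∃ g : G, g * g = d

variable (X : Cover C Q)

namespace Cover

theorem d_mem : X.d ∈ C := (X.mem _).2 rfl

/-- The involution as an element of its centraliser. -/
def dd : ↥C := ⟨X.d, X.d_mem⟩

theorem f_dd : X.f X.dd = 1 := (X.ker _).2 (Or.inr rfl)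

theorem dd_central (c : ↥C) : c * X.dd = X.dd * c := Subtype.ext ((X.mem _).1 c.2)

theorem dd_sq : X.dd * X.dd = 1 := Subtype.ext X.d_sq

theorem eq_of_f {a b : ↥C} (h : X.f a = X.f b) : b = a ∨ b = a * X.dd := by
  have h1 : X.f (a⁻¹ * b) = 1 := by rw [map_mul, map_inv, h, inv_mul_cancel]
  rcases (X.ker _).1 h1 with h2 | h2
  · exact Or.inl (inv_mul_eq_one.1 h2).symm
  · refine Or.inr ?_
    rw [← show a⁻¹ * b = X.dd from Subtype.ext h2, mul_inv_cancel_left]

/-- Elements over an element squaring to `1` square to `1`. -/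
theorem sq_one {c : ↥C} (h : X.f c * X.f c = 1) : c * c = 1 := by
  rcases (X.ker _).1 (show X.f (c * c) = 1 by rw [map_mul, h]) with h1 | h1
  · exact h1
  · exact absurd ⟨(c : G), h1⟩ X.not_sq

/-- The preimage of `E` inside `C`. -/
def A₀ : Subgroup ↥C := X.D.E.comap X.f

/-- The preimage of `E` in the whole group. -/
def A : Subgroup G := X.A₀.map C.subtype

/-- The preimage of the Sylow 2-subgroup. -/
def S₀ : Subgroup ↥C := X.D.S.comap X.f

theorem mem_A {x : G} : x ∈ X.A ↔ ∃ hx : x ∈ C, X.f ⟨x, hx⟩ ∈ X.D.E := by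
  constructor
  · rintro ⟨c, hc, rfl⟩
    exact ⟨c.2, hc⟩
  · rintro ⟨hx, h⟩
    exact ⟨⟨x, hx⟩, h, rfl⟩

theorem A_le : X.A ≤ C := fun _ h => ((X.mem_A).1 h).1

theorem d_mem_A : X.d ∈ X.A :=
  X.mem_A.2 ⟨X.d_mem, by
    show X.f X.dd ∈ X.D.E
    rw [X.f_dd]
    exact one_mem _⟩

theorem sq_A {x : G} (h : x ∈ X.A) : x * x = 1 := by
  obtain ⟨hx, he⟩ := X.mem_A.1 h
  exact congrArg Subtype.val (X.sq_one (X.D.E_sq _ he))

theorem comm_A {x y : G} (hx : x ∈ X.A) (hy : y ∈ X.A) : x * y = y * x := by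
  have h1 := inv_eq_of_mul_eq_one_right (X.sq_A hx)
  have h2 := inv_eq_of_mul_eq_one_right (X.sq_A hy)
  have h3 := inv_eq_of_mul_eq_one_right (X.sq_A (mul_mem hx hy))
  rw [← h3, _root_.mul_inv_rev, h1, h2]

theorem elementary_A : Cfsg.IsElementaryAbelian 2 X.A :=
  ⟨⟨⟨fun a b => Subtype.ext (X.comm_A a.2 b.2)⟩⟩, fun a ha => by rw [pow_two]; exact X.sq_A ha⟩

theorem card_ker : Nat.card ↥X.f.ker = 2 := by
  have h : (X.f.ker : Set ↥C) = {1, X.dd} := by
    ext c
    simp only [SetLike.mem_coe, MonoidHom.mem_ker, X.ker, Set.mem_insert_iff,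
      Set.mem_singleton_iff]
    exact or_congr Iff.rfl ⟨fun e => Subtype.ext e, fun e => congrArg Subtype.val e⟩
  rw [← SetLike.coe_sort_coe, Nat.card_coe_set_eq, h, Set.ncard_pair]
  exact fun e => X.d_ne (congrArg Subtype.val e).symm

theorem card_comap (K : Subgroup Q) : Nat.card ↥(K.comap X.f) = 2 * Nat.card ↥K := by
  set ψ : ↥(K.comap X.f) →* ↥K :=
    (X.f.comp (K.comap X.f).subtype).codRestrict K (fun c => c.2) with hψ
  have hs : Function.Surjective ψ := fun k => by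
    obtain ⟨c, hc⟩ := X.surj k
    exact ⟨⟨c, show X.f c ∈ K from hc ▸ k.2⟩, Subtype.ext hc⟩
  have h := ψ.ker.card_mul_index
  rw [Subgroup.index_ker, MonoidHom.range_eq_top.2 hs, Subgroup.card_top] at h
  have hk : Nat.card ↥ψ.ker = Nat.card ↥X.f.ker := by
    refine Nat.card_congr
      { toFun := fun c => ⟨(c.1 : ↥C), MonoidHom.mem_ker.2 (congrArg Subtype.val
          (MonoidHom.mem_ker.1 c.2))⟩
        invFun := fun c => ⟨⟨c.1, show X.f c.1 ∈ K by rw [MonoidHom.mem_ker.1 c.2]; exact one_mem K⟩,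
          MonoidHom.mem_ker.2 (Subtype.ext (MonoidHom.mem_ker.1 c.2))⟩
        left_inv := fun c => rfl
        right_inv := fun c => rfl }
  rw [← h, hk, X.card_ker]

theorem card_A : Nat.card ↥X.A = 2 ^ 10 := by
  rw [A, Subgroup.card_map_of_injective C.subtype_injective, A₀, X.card_comap, X.D.E_card]
  norm_num

theorem S₀_isPGroup : IsPGroup 2 ↥X.S₀ :=
  IsPGroup.of_card (p := 2) (n := 16) (by rw [S₀, X.card_comap, X.D.S_card]; norm_num)

theorem S₀_odd : ¬ 2 ∣ X.S₀.index := by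
  rw [S₀, Subgroup.index_comap_of_surjective _ X.surj]
  exact X.D.S_odd

/-- The preimage of the Sylow 2-subgroup as a Sylow 2-subgroup. -/
noncomputable def P₀ : Sylow 2 ↥C :=
  haveI : Fact (Nat.Prime 2) := ⟨Nat.prime_two⟩
  X.S₀_isPGroup.toSylow X.S₀_odd

theorem coe_P₀ : (X.P₀ : Subgroup ↥C) = X.S₀ := rfl

/-- Elementary abelian subgroups of order at least `2 ^ 10` in the preimage of the Sylow subgroup. -/
theorem max₀ {B : Subgroup ↥C} (hB : B ≤ X.S₀) (hsq : ∀ x ∈ B, x * x = 1)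
    (hcard : 2 ^ 10 ≤ Nat.card ↥B) : B = X.A₀ := by
  have h1 : B.map X.f ≤ X.D.S := Subgroup.map_le_iff_le_comap.2 hB
  have h2 : ∀ q ∈ B.map X.f, q * q = 1 := by
    rintro _ ⟨b, hb, rfl⟩
    rw [← map_mul, hsq b hb, map_one]
  have h3 : B ≤ (B.map X.f).comap X.f := Subgroup.le_comap_map _ _
  have h4 := Subgroup.card_le_of_le h3
  rw [X.card_comap] at h4
  have h5 := X.D.max _ h1 h2 (by omega)
  rw [h5] at h3
  exact Subgroup.eq_of_le_of_card_ge h3 (by
    rw [A₀, X.card_comap, X.D.E_card]; exact le_trans (by norm_num) hcard)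

theorem exists_sylow (S : Sylow 2 ↥C) : ∃ c : ↥C,
    (S : Subgroup ↥C) = X.S₀.map (MulAut.conj c).toMonoidHom := by
  haveI : Fact (Nat.Prime 2) := ⟨Nat.prime_two⟩
  obtain ⟨c, hc⟩ := MulAction.exists_smul_eq ↥C X.P₀ S
  refine ⟨c, ?_⟩
  rw [← hc]
  rfl

/-- Conjugates of `A₀` are the only large elementary abelian subgroups of a Sylow 2-subgroup. -/
theorem max_conj {c : ↥C} {B : Subgroup ↥C} (hB : B ≤ X.S₀.map (MulAut.conj c).toMonoidHom)
    (hsq : ∀ x ∈ B, x * x = 1) (hcard : 2 ^ 10 ≤ Nat.card ↥B) :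
    B = X.A₀.map (MulAut.conj c).toMonoidHom := by
  have hinj : Function.Injective (MulAut.conj c⁻¹).toMonoidHom := (MulAut.conj c⁻¹).injective
  have h1 : B.map (MulAut.conj c⁻¹).toMonoidHom ≤ X.S₀ := by
    rintro _ ⟨b, hb, rfl⟩
    obtain ⟨s, hs, rfl⟩ := hB hb
    simpa [mul_assoc] using hs
  have h2 : ∀ x ∈ B.map (MulAut.conj c⁻¹).toMonoidHom, x * x = 1 := by
    rintro _ ⟨b, hb, rfl⟩
    rw [← map_mul, hsq b hb, map_one]
  have h3 := X.max₀ h1 h2 (by rwa [Subgroup.card_map_of_injective hinj])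
  rw [← h3, Subgroup.map_map, show ((MulAut.conj c).toMonoidHom).comp (MulAut.conj c⁻¹).toMonoidHom
    = MonoidHom.id _ from MonoidHom.ext fun x => by simp [mul_assoc], Subgroup.map_id]

/-- A Thompson subgroup of a Sylow 2-subgroup of `C` is a conjugate of `A`. -/
theorem thompson (S : Sylow 2 ↥C) : ∃ c : ↥C,
    (Cfsg.thompsonSubgroupOf 2 (S : Subgroup ↥C)).map C.subtype =
      X.A.map (MulAut.conj (c : G)).toMonoidHom := by
  obtain ⟨c, hc⟩ := X.exists_sylow S
  refine ⟨c, ?_⟩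
  set T := X.A₀.map (MulAut.conj c).toMonoidHom with hT
  have hTS : T ≤ (S : Subgroup ↥C) := by
    rw [hc]
    exact Subgroup.map_mono (Subgroup.comap_mono X.D.E_le)
  have hTc : Nat.card ↥T = 2 ^ 10 := by
    rw [hT, Subgroup.card_map_of_injective (MulAut.conj c).injective, A₀, X.card_comap, X.D.E_card]
    norm_num
  have hTsq : ∀ x ∈ T, x * x = 1 := by
    rintro _ ⟨a, ha, rfl⟩
    rw [← map_mul, X.sq_one (X.D.E_sq _ ha), map_one]
  have key : Cfsg.maxElementaryAbelianSubgroups 2 ↥(S : Subgroup ↥C) =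
      {T.subgroupOf (S : Subgroup ↥C)} := by
    have hel : Cfsg.IsElementaryAbelian 2 (T.subgroupOf (S : Subgroup ↥C)) := by
      have hs : ∀ x ∈ T.subgroupOf (S : Subgroup ↥C), x * x = 1 := fun x hx =>
        Subtype.ext (hTsq _ (Subgroup.mem_subgroupOf.1 hx))
      refine ⟨⟨⟨fun a b => Subtype.ext ?_⟩⟩, fun a ha => by rw [pow_two]; exact hs a ha⟩
      have h1 := inv_eq_of_mul_eq_one_right (hs _ a.2)
      have h2 := inv_eq_of_mul_eq_one_right (hs _ b.2)
      have h3 := inv_eq_of_mul_eq_one_right (hs _ (a * b).2)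
      show (a.1 * b.1) = b.1 * a.1
      have h3' : (a.1 * b.1)⁻¹ = a.1 * b.1 := h3
      rw [← h3', _root_.mul_inv_rev, h1, h2]
    have hcardT : Nat.card ↥(T.subgroupOf (S : Subgroup ↥C)) = 2 ^ 10 := by
      rw [Nat.card_congr (Subgroup.subgroupOfEquivOfLe hTS).toEquiv, hTc]
    have huniq : ∀ B : Subgroup ↥(S : Subgroup ↥C), Cfsg.IsElementaryAbelian 2 B →
        2 ^ 10 ≤ Nat.card ↥B → B = T.subgroupOf (S : Subgroup ↥C) := by
      intro B hB hle
      have h1 : B.map (S : Subgroup ↥C).subtype = T := by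
        refine X.max_conj (hc ▸ Subgroup.map_subtype_le B) ?_ ?_
        · rintro _ ⟨b, hb, rfl⟩
          rw [← map_mul, ← pow_two, hB.2 b hb, map_one]
        · rwa [Subgroup.card_map_of_injective (Subgroup.subtype_injective _)]
      rw [← h1, Subgroup.subgroupOf, Subgroup.comap_map_eq_self_of_injective
        (Subgroup.subtype_injective _)]
    ext B
    rw [Set.mem_singleton_iff]
    constructor
    · exact fun h => huniq B h.1 (hcardT ▸ h.2 _ hel)
    · rintro rfl
      refine ⟨hel, fun B hB => le_of_not_gt fun hlt => ?_⟩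
      rw [huniq B hB (hcardT ▸ hlt.le)] at hlt
      exact lt_irrefl _ hlt
  rw [Cfsg.thompsonSubgroupOf, Cfsg.thompsonSubgroup, key, sSup_singleton,
    Subgroup.map_subgroupOf_eq_of_le hTS, hT, A, Subgroup.map_map, Subgroup.map_map]
  rfl

end Cover

end Cfsg.Agent.ThreeTransp.U62Cover
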