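import Cfsg.Agent.Lib.Forms.SU32Data

/-!
A Sylow 2-subgroup of `SU(6, 2)` in a hyperbolic basis, over the field with four elements as pairs:
finite checks.
-/

set_option autoImplicit false
set_option maxRecDepth 100000
set_option maxHeartbeats 2000000
set_option synthInstance.maxSize 4096
set_option synthInstance.maxHeartbeats 400000

namespace Cfsg.Agent.ThreeTransp.U62Cover.Model

open Cfsg.Agent.Forms.SU32 (E4 o l w v mE V3 M3 mulM rowMul tr cj)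

/-- conjugation in the field -/
def cE (x : E4) : E4 := mE x x
/-- identity -/
abbrev one3 : M3 := ((l, o, o), (o, l, o), (o, o, l))
/-- zero -/
abbrev z3 : M3 := ((o, o, o), (o, o, o), (o, o, o))
/-- block matrices -/
abbrev Blk : Type := M3 × M3 × M3 × M3
/-- block product -/
def mulB (P Q : Blk) : Blk :=
  (mulM P.1 Q.1 + mulM P.2.1 Q.2.2.1, mulM P.1 Q.2.1 + mulM P.2.1 Q.2.2.2,
    mulM P.2.2.1 Q.1 + mulM P.2.2.2 Q.2.2.1, mulM P.2.2.1 Q.2.1 + mulM P.2.2.2 Q.2.2.2)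
/-- block identity -/
abbrev oneB : Blk := (one3, z3, z3, one3)
/-- block transpose -/
def trB (P : Blk) : Blk := (tr P.1, tr P.2.2.1, tr P.2.1, tr P.2.2.2)
/-- block conjugation -/
def cjB (P : Blk) : Blk := (cj P.1, cj P.2.1, cj P.2.2.1, cj P.2.2.2)
/-- transpose times the form -/
def jT (P : Blk) : Blk := (tr P.2.2.1, tr P.1, tr P.2.2.2, tr P.2.1)
/-- the form -/
abbrev JB : Blk := (z3, one3, one3, z3)
/-- parameters of the Hermitian matrices -/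
abbrev P9 : Type := (ZMod 2 × ZMod 2 × ZMod 2) × E4 × E4 × E4
/-- parameters of the unitriangular matrices -/
abbrev U3 : Type := E4 × E4 × E4

/-- the Hermitian matrix -/
def herm (p : P9) : M3 :=
  (((p.1.1, 0), p.2.1, p.2.2.1), (cE p.2.1, (p.1.2.1, 0), p.2.2.2),
    (cE p.2.2.1, cE p.2.2.2, (p.1.2.2, 0)))
/-- the unitriangular matrix -/
def hM (t : U3) : M3 := ((l, t.1, t.2.1), (o, l, t.2.2), (o, o, l))
/-- its product -/
def mulT (s t : U3) : U3 := (s.1 + t.1, s.2.1 + t.2.1 + mE s.1 t.2.2, s.2.2 + t.2.2)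
/-- the dual matrix -/
def kM (t : U3) : M3 := tr (cj (hM (t.1, t.2.1 + mE t.1 t.2.2, t.2.2)))
/-- root block -/
def uB (X : M3) : Blk := (one3, X, z3, one3)
/-- Levi block -/
def lB (t : U3) : Blk := (hM t, z3, z3, kM t)
/-- the action on Hermitian matrices -/
def act (h : M3) (X : M3) : M3 := mulM (mulM h X) (tr (cj h))
/-- the base root element -/
abbrev t₀ : U3 := (o, l, o)

/-- involutory generators: the swaps, elementary Levi elements and root elements -/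
def gens : List Blk :=
  [
(((o, o, o), (o, l, o), (o, o, l)), ((l, o, o), (o, o, o), (o, o, o)), ((l, o, o), (o, o, o), (o, o, o)), ((o, o, o), (o, l, o), (o, o, l))),
    (((l, o, o), (o, o, o), (o, o, l)), ((o, o, o), (o, l, o), (o, o, o)), ((o, o, o), (o, l, o), (o, o, o)), ((l, o, o), (o, o, o), (o, o, l))),
    (((l, o, o), (o, l, o), (o, o, o)), ((o, o, o), (o, o, o), (o, o, l)), ((o, o, o), (o, o, o), (o, o, l)), ((l, o, o), (o, l, o), (o, o, o))),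
    (((l, l, o), (o, l, o), (o, o, l)), z3, z3, ((l, o, o), (l, l, o), (o, o, l))),
    (((l, w, o), (o, l, o), (o, o, l)), z3, z3, ((l, o, o), (v, l, o), (o, o, l))),
    (((l, o, l), (o, l, o), (o, o, l)), z3, z3, ((l, o, o), (o, l, o), (l, o, l))),
    (((l, o, w), (o, l, o), (o, o, l)), z3, z3, ((l, o, o), (o, l, o), (v, o, l))),
    (((l, o, o), (l, l, o), (o, o, l)), z3, z3, ((l, l, o), (o, l, o), (o, o, l))),
    (((l, o, o), (w, l, o), (o, o, l)), z3, z3, ((l, v, o), (o, l, o), (o, o, l))),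
    (((l, o, o), (o, l, l), (o, o, l)), z3, z3, ((l, o, o), (o, l, o), (o, l, l))),
    (((l, o, o), (o, l, w), (o, o, l)), z3, z3, ((l, o, o), (o, l, o), (o, v, l))),
    (((l, o, o), (o, l, o), (l, o, l)), z3, z3, ((l, o, l), (o, l, o), (o, o, l))),
    (((l, o, o), (o, l, o), (w, o, l)), z3, z3, ((l, o, v), (o, l, o), (o, o, l))),
    (((l, o, o), (o, l, o), (o, l, l)), z3, z3, ((l, o, o), (o, l, l), (o, o, l))),
    (((l, o, o), (o, l, o), (o, w, l)), z3, z3, ((l, o, o), (o, l, v), (o, o, l))),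
    (one3, ((l, o, o), (o, o, o), (o, o, o)), z3, one3),
    (one3, ((o, o, o), (o, l, o), (o, o, o)), z3, one3),
    (one3, ((o, o, o), (o, o, o), (o, o, l)), z3, one3),
    (one3, ((o, l, o), (l, o, o), (o, o, o)), z3, one3),
    (one3, ((o, w, o), (v, o, o), (o, o, o)), z3, one3),
    (one3, ((o, o, l), (o, o, o), (l, o, o)), z3, one3),
    (one3, ((o, o, w), (o, o, o), (v, o, o)), z3, one3),
    (one3, ((o, o, o), (o, o, l), (o, l, o)), z3, one3),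
    (one3, ((o, o, o), (o, o, w), (o, v, o)), z3, one3)]

/-- the class 0 with parents -/
def cls0 : List (P9 × ℕ × ℕ) :=
  [(((1, 0, 0), o, o, o), 0, 0), (((1, 1, 0), l, o, o), 0, 7), (((1, 1, 0), v, o, o), 0, 8),
    (((1, 0, 1), o, l, o), 0, 11), (((1, 0, 1), o, v, o), 0, 12), (((0, 1, 0), o, o, o), 1, 3),
    (((1, 1, 0), w, o, o), 1, 8), (((1, 1, 1), l, l, l), 1, 11), (((1, 1, 1), l, v, v), 1, 12),
    (((1, 1, 1), v, l, w), 2, 11), (((1, 1, 1), v, v, l), 2, 12), (((1, 1, 1), v, w, v), 2, 14),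
    (((0, 0, 1), o, o, o), 3, 5), (((1, 0, 1), o, w, o), 3, 12), (((1, 1, 1), w, v, w), 4, 10),
    (((0, 1, 1), o, o, l), 5, 13), (((0, 1, 1), o, o, v), 5, 14), (((1, 1, 1), w, l, v), 6, 11),
    (((1, 1, 1), w, w, l), 6, 13), (((1, 1, 1), l, w, w), 7, 12), (((0, 1, 1), o, o, w), 9, 5)]

/-- the class 1 with parents -/
def cls1 : List (P9 × ℕ × ℕ) :=
  [(((1, 1, 0), o, o, o), 0, 0), (((0, 1, 0), l, o, o), 0, 3), (((0, 1, 0), w, o, o), 0, 4),
    (((1, 0, 0), l, o, o), 0, 7), (((1, 0, 0), v, o, o), 0, 8), (((1, 1, 1), o, l, o), 0, 11),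
    (((1, 1, 1), o, v, o), 0, 12), (((1, 1, 1), o, o, l), 0, 13), (((1, 1, 1), o, o, v), 0, 14),
    (((0, 1, 0), v, o, o), 1, 4), (((0, 0, 0), l, o, o), 1, 8), (((0, 1, 0), l, o, l), 1, 11),
    (((0, 1, 0), l, o, v), 1, 12), (((0, 1, 1), l, l, l), 1, 13), (((0, 1, 1), l, v, v), 1, 14),
    (((0, 0, 0), w, o, o), 2, 7), (((0, 1, 0), w, o, v), 2, 11), (((0, 1, 0), w, o, w), 2, 12),
    (((0, 1, 1), w, w, l), 2, 13), (((0, 1, 1), w, l, v), 2, 14), (((1, 0, 0), w, o, o), 3, 8),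
    (((1, 0, 1), l, l, l), 3, 11), (((1, 0, 1), l, v, v), 3, 12), (((1, 0, 0), l, l, o), 3, 13),
    (((1, 0, 0), l, v, o), 3, 14), (((0, 0, 0), v, o, o), 4, 3), (((1, 0, 1), v, l, w), 4, 11),
    (((1, 0, 1), v, v, l), 4, 12), (((1, 0, 0), v, v, o), 4, 13), (((1, 0, 0), v, w, o), 4, 14),
    (((0, 1, 1), l, l, o), 5, 3), (((0, 1, 1), w, l, o), 5, 4), (((0, 1, 1), o, o, o), 5, 5),
    (((1, 1, 1), o, w, o), 5, 12), (((1, 1, 0), o, l, l), 5, 13), (((1, 1, 0), o, l, v), 5, 14),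
    (((0, 1, 1), l, v, o), 6, 3), (((0, 1, 1), w, v, o), 6, 4), (((1, 0, 1), w, v, w), 6, 10),
    (((1, 1, 0), o, v, l), 6, 13), (((1, 1, 0), o, v, v), 6, 14), (((1, 0, 1), l, o, l), 7, 7),
    (((1, 0, 1), v, o, l), 7, 8), (((1, 0, 1), o, o, o), 7, 9), (((1, 1, 1), o, o, w), 7, 14),
    (((0, 1, 1), v, w, v), 8, 6), (((1, 0, 1), l, o, v), 8, 7), (((1, 0, 1), v, o, v), 8, 8),
    (((0, 1, 0), v, o, w), 9, 11), (((0, 1, 0), v, o, l), 9, 12), (((0, 1, 1), v, v, l), 9, 13),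
    (((0, 0, 0), l, o, l), 10, 11), (((0, 0, 0), l, o, v), 10, 12), (((0, 0, 0), l, l, o), 10, 13),
    (((0, 0, 0), l, v, o), 10, 14), (((0, 1, 0), v, w, l), 11, 4), (((0, 1, 0), o, o, l), 11, 5),
    (((0, 1, 0), l, o, w), 11, 12), (((0, 1, 0), l, v, w), 11, 14), (((0, 1, 0), v, l, v), 12, 4),
    (((0, 1, 0), v, o, v), 12, 5), (((0, 1, 0), l, l, w), 12, 13), (((0, 0, 1), l, l, v), 13, 8),
    (((0, 0, 1), o, l, o), 13, 9), (((0, 1, 1), l, w, w), 13, 14), (((0, 0, 1), l, v, w), 14, 8),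
    (((0, 1, 1), w, v, w), 14, 9), (((0, 0, 0), w, o, v), 15, 11), (((0, 0, 0), w, o, w), 15, 12),
    (((0, 0, 0), w, w, o), 15, 13), (((0, 0, 0), w, l, o), 15, 14), (((0, 1, 0), v, v, v), 16, 3),
    (((0, 1, 0), o, o, v), 16, 5), (((0, 1, 0), w, o, l), 16, 12), (((0, 1, 0), w, w, w), 16, 13),
    (((0, 1, 0), v, w, w), 17, 3), (((1, 1, 0), o, v, w), 17, 4), (((0, 1, 0), w, w, v), 17, 13),
    (((0, 1, 0), w, l, l), 17, 14), (((0, 0, 1), w, w, v), 18, 7), (((0, 0, 1), w, w, w), 18, 8),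
    (((0, 0, 1), o, w, o), 18, 9), (((0, 0, 1), w, l, w), 19, 7), (((0, 0, 1), w, l, l), 19, 8),
    (((0, 1, 1), v, l, w), 19, 9), (((1, 0, 1), w, l, v), 20, 11), (((1, 0, 0), w, w, o), 20, 13),
    (((1, 0, 0), w, l, o), 20, 14), (((0, 0, 1), l, v, l), 21, 4), (((0, 0, 1), o, o, l), 21, 5),
    (((1, 0, 1), l, w, w), 21, 12), (((1, 0, 0), l, w, l), 21, 14), (((0, 0, 1), l, w, v), 22, 4),
    (((1, 0, 1), v, w, v), 22, 5), (((1, 0, 0), l, w, v), 22, 13), (((1, 0, 0), w, l, w), 23, 8),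
    (((1, 0, 0), o, l, o), 23, 9), (((1, 0, 0), l, w, o), 23, 14), (((1, 0, 0), w, v, l), 24, 8),
    (((1, 0, 0), w, v, o), 24, 9), (((0, 0, 0), v, o, w), 25, 11), (((0, 0, 0), v, o, l), 25, 12),
    (((0, 0, 0), v, v, o), 25, 13), (((0, 0, 0), v, w, o), 25, 14), (((0, 0, 1), v, v, w), 26, 3),
    (((0, 0, 1), v, w, w), 26, 4), (((0, 0, 1), o, o, w), 26, 5), (((1, 0, 0), v, w, w), 26, 13),
    (((1, 0, 0), v, v, w), 26, 14), (((0, 0, 1), v, w, l), 27, 3), (((0, 0, 1), v, l, l), 27, 4),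
    (((1, 0, 1), w, w, l), 27, 5), (((1, 0, 0), v, l, l), 27, 14), (((1, 0, 0), w, v, v), 28, 7),
    (((1, 0, 0), o, v, o), 28, 9), (((1, 0, 0), v, l, o), 28, 14), (((1, 0, 0), w, w, w), 29, 7),
    (((1, 1, 0), o, w, v), 29, 8), (((0, 1, 1), v, l, o), 30, 4), (((1, 1, 1), l, o, o), 30, 5),
    (((0, 0, 1), l, l, w), 30, 8), (((0, 0, 1), o, l, l), 30, 9), (((0, 1, 0), l, l, v), 30, 12),
    (((0, 1, 0), l, w, v), 30, 14), (((1, 1, 1), w, o, o), 31, 5), (((0, 1, 0), w, l, w), 31, 12),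
    (((0, 1, 0), w, v, l), 31, 13), (((0, 1, 1), l, w, o), 33, 3), (((0, 1, 1), w, w, o), 33, 4),
    (((1, 1, 0), o, w, l), 33, 13), (((1, 1, 0), l, l, l), 34, 5), (((1, 0, 0), v, l, v), 34, 8),
    (((1, 1, 0), o, l, w), 34, 14), (((1, 1, 0), w, l, v), 35, 5), (((1, 0, 0), l, l, w), 35, 7),
    (((1, 0, 0), l, l, v), 35, 9), (((0, 1, 1), v, v, o), 36, 4), (((0, 0, 1), w, v, l), 36, 9),
    (((0, 1, 0), l, v, l), 36, 11), (((0, 1, 0), l, w, l), 36, 13), (((0, 0, 1), w, v, v), 37, 7),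
    (((0, 0, 1), o, v, w), 37, 10), (((0, 1, 0), w, v, v), 37, 11), (((1, 0, 1), w, o, w), 38, 4),
    (((1, 0, 0), l, v, w), 39, 7), (((1, 1, 0), v, v, l), 39, 9), (((1, 0, 0), v, v, v), 40, 9),
    (((0, 0, 1), l, w, l), 41, 4), (((1, 0, 1), w, o, l), 41, 8), (((1, 0, 0), l, v, l), 41, 14),
    (((1, 1, 1), v, o, o), 42, 9), (((1, 0, 0), v, w, l), 42, 14), (((1, 0, 1), l, o, w), 44, 7),
    (((1, 0, 1), v, o, w), 44, 8), (((0, 1, 1), v, w, o), 45, 8), (((0, 0, 1), v, l, v), 46, 5),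
    (((1, 0, 1), w, o, v), 46, 8), (((0, 0, 1), v, v, v), 47, 3), (((0, 0, 1), o, w, v), 47, 6),
    (((0, 1, 0), o, o, w), 48, 5), (((0, 0, 1), o, v, o), 50, 9), (((0, 0, 0), l, l, l), 51, 3),
    (((0, 0, 0), o, o, l), 51, 5), (((0, 0, 0), l, o, w), 51, 12), (((0, 0, 0), l, v, v), 52, 3),
    (((0, 0, 0), v, o, v), 52, 5), (((0, 0, 0), o, l, o), 53, 9), (((0, 0, 0), l, w, o), 53, 14),
    (((0, 0, 0), w, v, o), 54, 9), (((1, 1, 0), w, w, l), 55, 5), (((0, 0, 0), v, w, v), 55, 7),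
    (((0, 0, 0), w, w, l), 55, 10), (((1, 1, 0), o, w, w), 57, 3), (((0, 1, 0), v, v, w), 57, 4),
    (((1, 1, 0), w, v, w), 58, 5), (((0, 0, 0), w, v, w), 58, 9), (((0, 0, 0), v, l, w), 59, 7),
    (((0, 1, 0), v, l, l), 59, 8), (((0, 0, 0), w, l, v), 59, 9), (((0, 0, 0), o, l, v), 59, 10),
    (((0, 0, 0), o, l, w), 61, 9), (((0, 0, 1), o, l, w), 62, 9), (((0, 0, 0), l, w, w), 65, 13),
    (((0, 0, 0), o, o, v), 67, 5), (((0, 0, 0), w, o, l), 67, 12), (((0, 0, 0), o, w, o), 69, 9),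
    (((0, 0, 0), v, l, o), 70, 9), (((1, 1, 0), l, v, v), 71, 5), (((0, 0, 0), o, v, v), 71, 9),
    (((1, 1, 0), l, w, w), 74, 5), (((0, 0, 0), o, w, w), 74, 9), (((0, 0, 0), o, w, v), 77, 9),
    (((0, 0, 1), o, v, v), 79, 5), (((0, 0, 1), o, w, w), 79, 9), (((0, 0, 1), o, v, l), 83, 6),
    (((0, 0, 1), o, o, v), 85, 5), (((1, 0, 0), o, w, o), 86, 9), (((0, 0, 1), o, w, l), 88, 5),
    (((0, 0, 0), o, w, l), 91, 5), (((1, 0, 0), w, w, v), 94, 6), (((1, 1, 0), v, w, v), 94, 9),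
    (((1, 1, 0), v, l, w), 95, 9), (((1, 0, 0), w, l, l), 98, 4), (((0, 0, 0), v, v, l), 98, 5),
    (((0, 0, 0), o, v, l), 98, 6), (((0, 0, 0), o, o, w), 100, 5), (((0, 0, 0), o, v, o), 102, 9),
    (((0, 0, 0), o, v, w), 108, 5), (((0, 0, 1), o, l, v), 110, 10), (((0, 0, 0), o, l, l), 121, 12)]

/-- the class 2 with parents -/
def cls2 : List (P9 × ℕ × ℕ) :=
  [(((1, 1, 1), o, o, o), 0, 0), (((0, 1, 1), l, o, o), 0, 3), (((0, 1, 1), w, o, o), 0, 4),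
    (((0, 1, 1), o, l, o), 0, 5), (((0, 1, 1), o, w, o), 0, 6), (((1, 0, 1), l, o, o), 0, 7),
    (((1, 0, 1), v, o, o), 0, 8), (((1, 0, 1), o, o, l), 0, 9), (((1, 0, 1), o, o, w), 0, 10),
    (((1, 1, 0), o, l, o), 0, 11), (((1, 1, 0), o, v, o), 0, 12), (((1, 1, 0), o, o, l), 0, 13),
    (((1, 1, 0), o, o, v), 0, 14), (((0, 1, 1), v, o, o), 1, 4), (((1, 1, 1), l, l, o), 1, 5),
    (((1, 1, 1), l, w, o), 1, 6), (((0, 0, 1), l, o, o), 1, 8), (((0, 0, 1), l, o, l), 1, 9),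
    (((0, 0, 1), l, o, w), 1, 10), (((0, 1, 1), l, o, l), 1, 11), (((0, 1, 1), l, o, v), 1, 12),
    (((0, 1, 0), l, l, l), 1, 13), (((0, 1, 0), l, v, v), 1, 14), (((1, 1, 1), w, l, o), 2, 5),
    (((1, 1, 1), w, w, o), 2, 6), (((0, 0, 1), w, o, o), 2, 7), (((0, 0, 1), w, o, l), 2, 9),
    (((0, 0, 1), w, o, w), 2, 10), (((0, 1, 1), w, o, v), 2, 11), (((0, 1, 1), w, o, w), 2, 12),
    (((0, 1, 0), w, w, l), 2, 13), (((0, 1, 0), w, l, v), 2, 14), (((0, 1, 1), o, v, o), 3, 6),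
    (((0, 1, 1), o, l, l), 3, 7), (((0, 1, 1), o, l, w), 3, 8), (((0, 0, 1), l, l, l), 3, 9),
    (((0, 0, 1), v, l, w), 3, 10), (((0, 1, 0), o, l, o), 3, 12), (((0, 1, 0), o, l, l), 3, 13),
    (((0, 1, 0), o, l, v), 3, 14), (((0, 1, 1), o, w, w), 4, 7), (((0, 1, 1), o, w, v), 4, 8),
    (((0, 0, 1), w, w, l), 4, 9), (((0, 0, 1), l, w, w), 4, 10), (((0, 1, 0), o, w, o), 4, 11),
    (((0, 1, 0), o, w, l), 4, 13), (((0, 1, 0), o, w, v), 4, 14), (((0, 0, 1), l, l, o), 5, 5),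
    (((0, 0, 1), l, w, o), 5, 6), (((1, 0, 1), w, o, o), 5, 8), (((1, 1, 1), l, o, l), 5, 9),
    (((1, 1, 1), l, o, w), 5, 10), (((1, 0, 0), l, l, l), 5, 11), (((1, 0, 0), l, v, v), 5, 12),
    (((1, 0, 1), l, l, o), 5, 13), (((1, 0, 1), l, v, o), 5, 14), (((0, 0, 1), v, o, o), 6, 3),
    (((0, 0, 1), v, l, o), 6, 5), (((0, 0, 1), v, w, o), 6, 6), (((1, 1, 1), v, o, l), 6, 9),
    (((1, 1, 1), v, o, w), 6, 10), (((1, 0, 0), v, l, w), 6, 11), (((1, 0, 0), v, v, l), 6, 12),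
    (((1, 0, 1), v, v, o), 6, 13), (((1, 0, 1), v, w, o), 6, 14), (((1, 0, 1), o, l, l), 7, 3),
    (((1, 0, 1), o, w, l), 7, 4), (((1, 0, 1), o, o, v), 7, 10), (((1, 0, 0), o, l, l), 7, 11),
    (((1, 0, 0), o, v, l), 7, 12), (((1, 0, 0), o, o, l), 7, 14), (((1, 0, 1), o, w, w), 8, 3),
    (((1, 0, 1), o, v, w), 8, 4), (((1, 0, 0), o, l, w), 8, 11), (((1, 0, 0), o, v, w), 8, 12),
    (((1, 0, 0), o, o, w), 8, 13), (((0, 1, 0), l, l, o), 9, 3), (((0, 1, 0), w, l, o), 9, 4),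
    (((1, 1, 0), l, l, o), 9, 9), (((1, 1, 0), v, l, o), 9, 10), (((1, 1, 0), o, w, o), 9, 12),
    (((1, 1, 1), o, l, l), 9, 13), (((1, 1, 1), o, l, v), 9, 14), (((0, 1, 0), l, v, o), 10, 3),
    (((0, 1, 0), w, v, o), 10, 4), (((0, 1, 0), o, v, o), 10, 5), (((1, 1, 0), v, v, o), 10, 9),
    (((1, 1, 0), w, v, o), 10, 10), (((1, 1, 1), o, v, l), 10, 13), (((1, 1, 1), o, v, v), 10, 14),
    (((1, 1, 0), l, o, l), 11, 5), (((1, 1, 0), w, o, l), 11, 6), (((1, 0, 0), l, o, l), 11, 7),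
    (((1, 0, 0), v, o, l), 11, 8), (((1, 1, 0), o, o, w), 11, 14), (((1, 1, 0), w, o, v), 12, 5),
    (((1, 1, 0), v, o, v), 12, 6), (((1, 0, 0), l, o, v), 12, 7), (((1, 0, 0), v, o, v), 12, 8),
    (((1, 0, 0), o, o, v), 12, 9), (((1, 1, 1), v, l, o), 13, 5), (((1, 1, 1), v, w, o), 13, 6),
    (((0, 0, 1), v, o, l), 13, 9), (((0, 0, 1), v, o, w), 13, 10), (((0, 1, 1), v, o, w), 13, 11),
    (((0, 1, 1), v, o, l), 13, 12), (((0, 1, 0), v, v, l), 13, 13), (((0, 1, 0), v, w, v), 13, 14),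
    (((1, 1, 1), l, v, o), 14, 6), (((1, 1, 1), w, l, w), 14, 8), (((1, 0, 1), w, l, w), 14, 10),
    (((1, 1, 1), l, w, v), 14, 12), (((1, 1, 0), l, w, v), 14, 14), (((1, 1, 1), w, w, v), 15, 8),
    (((1, 0, 1), v, w, l), 15, 9), (((1, 1, 1), l, v, l), 15, 11), (((1, 1, 1), l, l, v), 15, 12),
    (((1, 1, 0), l, v, l), 15, 13), (((1, 1, 0), l, l, v), 15, 14), (((1, 0, 1), l, w, o), 16, 6),
    (((0, 1, 1), l, o, w), 16, 10), (((0, 0, 1), l, o, v), 16, 12), (((0, 0, 1), l, v, o), 16, 14),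
    (((1, 0, 1), l, w, l), 17, 4), (((0, 0, 0), l, v, l), 17, 14), (((1, 0, 1), l, v, w), 18, 4),
    (((0, 0, 0), l, l, w), 18, 13), (((0, 0, 0), l, v, w), 18, 14), (((0, 1, 1), v, w, l), 19, 4),
    (((1, 1, 1), v, w, l), 19, 6), (((0, 1, 1), l, v, w), 19, 14), (((0, 1, 1), v, l, v), 20, 4),
    (((1, 1, 1), v, l, v), 20, 5), (((0, 1, 1), l, l, w), 20, 13), (((1, 1, 0), v, l, l), 21, 6),
    (((0, 0, 0), l, l, v), 21, 8), (((0, 0, 0), w, l, l), 21, 10), (((0, 1, 0), l, w, w), 21, 14),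
    (((1, 1, 0), v, v, v), 22, 5), (((1, 1, 0), w, v, v), 22, 6), (((0, 0, 0), w, v, v), 22, 9),
    (((0, 0, 0), v, v, v), 22, 10), (((1, 1, 1), w, v, o), 23, 6), (((1, 1, 1), v, l, l), 23, 7),
    (((1, 1, 1), l, l, w), 23, 8), (((1, 0, 1), v, l, l), 23, 9), (((1, 0, 1), l, l, w), 23, 10),
    (((1, 1, 1), w, w, w), 23, 12), (((1, 1, 0), w, v, l), 23, 13), (((1, 1, 1), v, w, w), 24, 7),
    (((1, 0, 1), v, w, w), 24, 10), (((1, 1, 1), w, v, v), 24, 11), (((1, 0, 1), w, l, o), 25, 5),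
    (((1, 0, 1), w, w, o), 25, 6), (((0, 1, 1), w, o, l), 25, 9), (((0, 0, 1), w, o, v), 25, 11),
    (((0, 0, 1), w, w, o), 25, 13), (((0, 0, 1), w, l, o), 25, 14), (((1, 0, 1), w, l, l), 26, 3),
    (((1, 0, 1), w, w, w), 27, 3), (((0, 0, 1), w, v, w), 27, 4), (((0, 0, 0), w, w, w), 27, 13),
    (((0, 0, 0), w, l, w), 27, 14), (((0, 1, 1), v, v, v), 28, 3), (((0, 1, 1), w, w, w), 28, 13),
    (((0, 1, 1), v, w, w), 29, 3), (((1, 1, 1), o, v, w), 29, 4), (((0, 1, 1), w, w, v), 29, 13),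
    (((0, 1, 1), w, l, l), 29, 14), (((1, 1, 0), v, w, l), 30, 5), (((0, 0, 0), w, w, v), 30, 7),
    (((0, 0, 0), v, w, l), 30, 10), (((0, 1, 0), w, v, w), 30, 14), (((0, 0, 0), v, l, v), 31, 9),
    (((0, 1, 1), o, v, v), 32, 7), (((0, 1, 1), o, v, l), 32, 8), (((0, 0, 1), v, v, l), 32, 9),
    (((0, 1, 0), o, v, l), 32, 13), (((0, 1, 0), o, v, v), 32, 14), (((1, 1, 1), w, v, l), 33, 4),
    (((0, 1, 1), w, v, l), 33, 6), (((0, 1, 1), o, l, v), 33, 8), (((1, 1, 1), l, v, w), 34, 3),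
    (((0, 1, 1), l, l, v), 34, 9), (((0, 1, 0), o, l, w), 34, 12), (((1, 0, 1), l, v, l), 35, 4),
    (((0, 0, 1), w, l, v), 35, 10), (((0, 0, 0), l, w, l), 35, 14), (((1, 0, 1), v, v, w), 36, 3),
    (((0, 0, 0), v, w, w), 36, 13), (((0, 0, 0), v, v, w), 36, 14), (((1, 1, 0), w, l, o), 37, 4),
    (((0, 1, 0), v, l, o), 37, 10), (((1, 1, 0), w, l, l), 38, 6), (((0, 0, 0), v, l, l), 38, 10),
    (((1, 1, 0), v, l, v), 39, 6), (((0, 1, 1), v, v, w), 40, 5), (((0, 1, 1), o, w, l), 40, 8),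
    (((0, 1, 0), o, w, w), 40, 11), (((0, 1, 1), w, v, v), 41, 5), (((1, 1, 1), v, o, v), 41, 6),
    (((0, 1, 1), l, w, l), 41, 10), (((1, 0, 1), w, v, l), 42, 3), (((0, 0, 1), v, w, v), 42, 10),
    (((0, 0, 0), w, v, l), 42, 14), (((0, 0, 0), l, w, v), 43, 11), (((1, 1, 0), l, w, o), 44, 3),
    (((1, 1, 0), w, w, o), 44, 4), (((0, 1, 0), w, w, o), 44, 9), (((0, 1, 0), l, w, o), 44, 10),
    (((1, 1, 0), l, w, l), 45, 5), (((1, 1, 0), w, w, v), 46, 5), (((0, 1, 1), w, l, w), 47, 10),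
    (((0, 1, 1), l, w, v), 48, 8), (((1, 1, 1), w, o, l), 49, 9), (((1, 1, 1), w, o, w), 49, 10),
    (((1, 0, 0), w, l, v), 49, 11), (((1, 0, 0), w, v, w), 49, 12), (((1, 1, 1), l, o, v), 50, 10),
    (((1, 1, 0), l, v, w), 50, 12), (((1, 1, 1), v, v, w), 51, 4), (((1, 0, 0), l, w, w), 52, 12),
    (((1, 0, 1), l, w, v), 53, 13), (((1, 0, 1), v, l, o), 56, 5), (((0, 0, 1), v, v, o), 56, 13),
    (((0, 1, 1), v, l, l), 57, 7), (((1, 1, 1), w, l, l), 59, 3), (((1, 1, 1), l, w, l), 59, 4),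
    (((1, 1, 1), v, v, v), 60, 13), (((1, 1, 0), w, l, w), 61, 9), (((1, 0, 0), v, w, v), 61, 12),
    (((1, 0, 1), w, v, v), 63, 7), (((1, 1, 1), o, w, v), 64, 8), (((1, 0, 1), o, v, l), 65, 4),
    (((1, 0, 1), v, l, v), 65, 10), (((1, 0, 0), o, w, l), 66, 14), (((1, 0, 1), o, v, v), 67, 3),
    (((1, 0, 1), o, l, v), 67, 4), (((1, 0, 0), o, l, v), 67, 11), (((1, 0, 0), o, v, v), 67, 12),
    (((1, 0, 0), w, o, l), 70, 6), (((1, 1, 0), v, o, l), 70, 8), (((1, 0, 1), o, l, w), 71, 4),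
    (((1, 0, 1), w, w, v), 71, 9), (((1, 0, 0), o, w, w), 71, 13), (((1, 0, 1), v, v, v), 72, 9),
    (((1, 1, 0), l, l, w), 73, 9), (((1, 1, 0), v, v, w), 74, 9), (((1, 0, 0), v, o, w), 75, 5),
    (((1, 0, 0), l, o, w), 75, 6), (((1, 1, 0), l, o, w), 75, 7), (((1, 1, 0), v, o, w), 75, 8),
    (((1, 1, 1), o, w, l), 80, 13), (((1, 1, 1), o, l, w), 81, 14), (((0, 1, 0), v, v, o), 83, 4),
    (((1, 1, 0), l, v, o), 83, 5), (((0, 1, 1), l, v, l), 83, 11), (((1, 1, 0), v, w, w), 86, 11),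
    (((1, 1, 0), l, o, v), 95, 6), (((1, 0, 0), w, o, v), 95, 9), (((1, 1, 0), w, w, w), 95, 13),
    (((1, 0, 1), l, l, v), 97, 13), (((1, 1, 1), v, v, o), 100, 6), (((1, 0, 1), o, w, v), 101, 8),
    (((0, 0, 1), v, o, v), 102, 10), (((0, 1, 1), v, o, v), 104, 9), (((0, 1, 0), v, l, w), 106, 14),
    (((0, 1, 0), v, w, o), 107, 8), (((1, 0, 0), w, o, w), 110, 14), (((1, 0, 0), o, w, v), 112, 10),
    (((1, 1, 1), o, w, w), 113, 9), (((1, 0, 1), w, v, o), 115, 9), (((0, 0, 1), l, v, v), 121, 3),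
    (((0, 1, 1), o, v, w), 133, 6), (((1, 1, 0), v, w, o), 134, 12), (((0, 0, 1), w, v, o), 140, 11),
    (((1, 1, 0), w, o, w), 142, 12), (((1, 1, 1), w, o, v), 147, 13), (((1, 0, 0), w, w, l), 169, 10),
    (((0, 1, 0), o, v, w), 172, 10)]

/-- root part certificates -/
def hcert : List (U3 × List ℕ) :=
  [((o, o, l), [3, 7]),
    ((o, o, w), [4, 3, 8]),
    ((o, o, v), [4, 8, 7]),
    ((o, l, o), []),
    ((o, l, l), [7]),
    ((o, l, w), [8]),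
    ((o, l, v), [8, 7]),
    ((o, w, o), [7, 4, 8]),
    ((o, w, l), [4, 3, 7]),
    ((o, w, w), [4, 8]),
    ((o, w, v), [3, 8, 7]),
    ((o, v, o), [8, 4, 7]),
    ((o, v, l), [4, 7]),
    ((o, v, w), [3, 8]),
    ((o, v, v), [8, 3, 8]),
    ((l, o, o), [9, 13]),
    ((l, l, o), [13]),
    ((l, w, o), [10, 9, 13]),
    ((l, v, o), [10, 13]),
    ((w, o, o), [10, 9, 14]),
    ((w, l, o), [14]),
    ((w, w, o), [10, 14]),
    ((w, v, o), [9, 14]),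
    ((v, o, o), [10, 14, 13]),
    ((v, l, o), [14, 13]),
    ((v, w, o), [9, 14, 13]),
    ((v, v, o), [14, 9, 14])]

/-- involutions over the base root element -/
def xcert : List (P9 × List ℕ × P9) :=
  [(((0, 0, 0), o, o, o), [2], ((0, 0, 0), o, l, o)),
    (((0, 0, 0), o, l, o), [17, 2], ((1, 0, 0), o, l, o)),
    (((0, 0, 0), l, o, o), [2], ((0, 0, 0), l, l, o)),
    (((0, 0, 0), l, l, o), [17, 2], ((1, 0, 0), l, l, o)),
    (((0, 0, 0), w, o, o), [2], ((0, 0, 0), w, l, o)),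
    (((0, 0, 0), w, l, o), [17, 2], ((1, 0, 0), w, l, o)),
    (((0, 0, 0), v, o, o), [2], ((0, 0, 0), v, l, o)),
    (((0, 0, 0), v, l, o), [17, 2], ((1, 0, 0), v, l, o)),
    (((0, 1, 0), o, o, o), [2], ((0, 1, 0), o, l, o)),
    (((0, 1, 0), o, l, o), [17, 2], ((1, 1, 0), o, l, o)),
    (((0, 1, 0), l, o, o), [2], ((0, 1, 0), l, l, o)),
    (((0, 1, 0), l, l, o), [17, 2], ((1, 1, 0), l, l, o)),
    (((0, 1, 0), w, o, o), [2], ((0, 1, 0), w, l, o)),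
    (((0, 1, 0), w, l, o), [17, 2], ((1, 1, 0), w, l, o)),
    (((0, 1, 0), v, o, o), [2], ((0, 1, 0), v, l, o)),
    (((0, 1, 0), v, l, o), [17, 2], ((1, 1, 0), v, l, o)),
    (((1, 0, 0), o, o, o), [2], ((1, 0, 0), o, l, o)),
    (((1, 0, 0), o, l, o), [17, 2], ((0, 0, 0), o, l, o)),
    (((1, 0, 0), l, o, o), [2], ((1, 0, 0), l, l, o)),
    (((1, 0, 0), l, l, o), [17, 2], ((0, 0, 0), l, l, o)),
    (((1, 0, 0), w, o, o), [2], ((1, 0, 0), w, l, o)),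
    (((1, 0, 0), w, l, o), [17, 2], ((0, 0, 0), w, l, o)),
    (((1, 0, 0), v, o, o), [2], ((1, 0, 0), v, l, o)),
    (((1, 0, 0), v, l, o), [17, 2], ((0, 0, 0), v, l, o)),
    (((1, 1, 0), o, o, o), [2], ((1, 1, 0), o, l, o)),
    (((1, 1, 0), o, l, o), [17, 2], ((0, 1, 0), o, l, o)),
    (((1, 1, 0), l, o, o), [2], ((1, 1, 0), l, l, o)),
    (((1, 1, 0), l, l, o), [17, 2], ((0, 1, 0), l, l, o)),
    (((1, 1, 0), w, o, o), [2], ((1, 1, 0), w, l, o)),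
    (((1, 1, 0), w, l, o), [17, 2], ((0, 1, 0), w, l, o)),
    (((1, 1, 0), v, o, o), [2], ((1, 1, 0), v, l, o)),
    (((1, 1, 0), v, l, o), [17, 2], ((0, 1, 0), v, l, o))]

/-- a generator -/
def gen (i : ℕ) : Blk := gens.getD i oneB
/-- conjugation by a word of generators -/
def conjW (ws : List ℕ) (b : Blk) : Blk := ws.foldl (fun c i => mulB (mulB (gen i) c) (gen i)) b
/-- product of a word -/
def prodW (ws : List ℕ) : Blk := ws.foldl (fun c i => mulB c (gen i)) oneB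
/-- the word of a field element -/
def wordE (i : ℕ) (x : E4) : List ℕ :=
  (if x.1 = 1 then [i] else []) ++ (if x.2 = 1 then [i + 1] else [])
/-- the word of a unitriangular matrix -/
def wordT (t : U3) : List ℕ := wordE 9 t.2.2 ++ wordE 5 t.2.1 ++ wordE 3 t.1
/-- the word of a Hermitian matrix -/
def wordP (p : P9) : List ℕ :=
  (if p.1.1 = 1 then [15] else []) ++ (if p.1.2.1 = 1 then [16] else []) ++
    (if p.1.2.2 = 1 then [17] else []) ++ wordE 18 p.2.1 ++ wordE 20 p.2.2.1 ++ wordE 22 p.2.2.2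
/-- index of parameters -/
def bit (x : ZMod 2) : ℕ := x.val
/-- index of parameters -/
def code (p : P9) : ℕ :=
  bit p.1.1 + 2 * bit p.1.2.1 + 4 * bit p.1.2.2 + 8 * bit p.2.1.1 + 16 * bit p.2.1.2 +
    32 * bit p.2.2.1.1 + 64 * bit p.2.2.1.2 + 128 * bit p.2.2.2.1 + 256 * bit p.2.2.2.2
/-- the classes -/
def cls : List (List (P9 × ℕ × ℕ)) := [cls0, cls1, cls2]

theorem gens_sq : ∀ i : Fin 24, mulB (gen i) (gen i) = oneB := by decide +kernel

theorem gens_form : ∀ i : Fin 24, mulB (jT (gen i)) (cjB (gen i)) = JB := by decide +kernel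

theorem gens_u : ∀ i : Fin 9, gen (15 + i) = uB (gen (15 + i)).2.1 := by decide +kernel

theorem herm_word : ∀ p : P9,
    ((wordP p).map fun i => (gen i).2.1).sum = herm p ∧ ∀ i ∈ wordP p, 15 ≤ i ∧ i < 24 := by
  decide +kernel

theorem diag_fixed : ∀ x : E4, mE x x = x → x = (x.1, 0) := by decide +kernel

theorem mE_simps : ∀ x : E4, mE o x = o ∧ mE x o = o ∧ mE l x = x ∧ mE x l = x := by decide

theorem kM_entries : ∀ a c d f : E4, cE (mE a c) + mE (cE c) (cE d) + cE (mE d f) =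
    cE (mE a f + mE (a + d) (c + f)) := by decide +kernel

theorem cE_add : ∀ x y : E4, cE (x + y) = cE x + cE y := by decide

set_option linter.unusedSimpArgs false in
theorem hM_mul (s t : U3) : mulM (hM s) (hM t) = hM (mulT s t) ∧
    mulM (kM s) (kM t) = kM (mulT s t) := by
  obtain ⟨a, b, c⟩ := s
  obtain ⟨d, e, f⟩ := t
  have h1 : ∀ x : E4, mE o x = o := fun x => (mE_simps x).1
  have h2 : ∀ x : E4, mE x o = o := fun x => (mE_simps x).2.1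
  have h3 : ∀ x : E4, mE l x = x := fun x => (mE_simps x).2.2.1
  have h4 : ∀ x : E4, mE x l = x := fun x => (mE_simps x).2.2.2
  have h5 : ∀ x : E4, mE x x = cE x := fun _ => rfl
  have h6 : cE l = l := rfl
  have h7 : cE o = o := rfl
  have e0 : o = (0 : E4) := rfl
  constructor
  · simp only [mulM, rowMul, hM, mulT, h1, h2, h3, h4, Prod.mk.injEq]
    simp only [e0, add_zero, zero_add, and_true, true_and]
    refine ⟨⟨?_, ?_⟩, ?_⟩ <;> abel
  · simp only [mulM, rowMul, kM, hM, tr, cj, mulT, h5, h6, h7, h1, h2, h3, h4, Prod.mk.injEq]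
    simp only [e0, add_zero, zero_add, and_true, true_and]
    have hk := kM_entries a c d f
    refine ⟨(cE_add _ _).symm, ?_, (cE_add _ _).symm⟩
    rw [add_assoc (b + e), cE_add (b + e), cE_add b e, cE_add b, cE_add e, ← hk]
    abel

theorem hM_dual : ∀ t : U3, mulM (tr (hM t)) (cj (kM t)) = one3 := by decide +kernel

theorem lB_word : ∀ t : U3, prodW (wordT t) = lB t := by decide +kernel

theorem sq_iff : ∀ t : U3, mulT t t = (o, o, o) ↔ t.1 = o ∨ t.2.2 = o := by decide +kernel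

theorem comm_cases : ∀ s t : U3, mulT s t = mulT t s → (s.1 = o ∨ s.2.2 = o) →
    (t.1 = o ∨ t.2.2 = o) → (s.2.2 = o ∧ t.2.2 = o) ∨ (s.1 = o ∧ t.1 = o) := by decide +kernel

/-- the Hermitian matrices fixed by a unitriangular one -/
def fixL (t : U3) : Finset P9 := Finset.univ.filter fun p => act (hM t) (herm p) = herm p

theorem fix_one : (fixL t₀).card ≤ 64 := by decide +kernel

theorem fix_left : ∀ a b : E4, a ≠ o → b ≠ o → (fixL (a, o, o) ∩ fixL (o, b, o)).card ≤ 16 := by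
  decide +kernel

theorem fix_right : ∀ b c : E4, b ≠ o → c ≠ o → (fixL (o, b, o) ∩ fixL (o, o, c)).card ≤ 16 := by
  decide +kernel

theorem cls_codes : ∀ i : Fin 3,
    ((cls.getD i []).map fun e => code e.1).length = ([21, 210, 280] : List ℕ).getD i 0 := by
  decide +kernel

theorem cls_nodup : ((cls0 ++ cls1 ++ cls2).map fun e => code e.1).Nodup := by decide +kernel

theorem cls_cover : ∀ p : P9, herm p = z3 ∨ code p ∈ (cls0 ++ cls1 ++ cls2).map fun e => code e.1 := by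
  decide +kernel

theorem code_inj : ∀ p : P9, p = ((((code p : ℕ) : ZMod 2), ((code p / 2 : ℕ) : ZMod 2),
      ((code p / 4 : ℕ) : ZMod 2)),
    (((code p / 8 : ℕ) : ZMod 2), ((code p / 16 : ℕ) : ZMod 2)),
    (((code p / 32 : ℕ) : ZMod 2), ((code p / 64 : ℕ) : ZMod 2)),
    (((code p / 128 : ℕ) : ZMod 2), ((code p / 256 : ℕ) : ZMod 2))) := by decide +kernel

theorem cls_tree : ∀ i : Fin 3, ∀ j : Fin (cls.getD i []).length, (j : ℕ) ≠ 0 →
    ((cls.getD i [])[j]).2.1 < j ∧ 3 ≤ ((cls.getD i [])[j]).2.2 ∧ ((cls.getD i [])[j]).2.2 < 15 ∧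
    act (gen ((cls.getD i [])[j]).2.2).1 (herm ((cls.getD i []).getD ((cls.getD i [])[j]).2.1
      (((0, 0, 0), o, o, o), 0, 0)).1) = herm ((cls.getD i [])[j]).1 := by
  decide +kernel

theorem gens_lev : ∀ i : Fin 12, (gen (3 + i)).2.1 = z3 ∧ (gen (3 + i)).2.2.1 = z3 := by
  decide +kernel

theorem herm_nonzero : ∀ e ∈ cls0 ++ cls1 ++ cls2, herm e.1 ≠ z3 := by decide +kernel

theorem sq_reps : ∀ i : Fin 2, ∃ p : P9, ∃ t : U3, mulT t t = (o, o, o) ∧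
    herm p + act (hM t) (herm p) = herm ((cls.getD i []).getD 0 (((0, 0, 0), o, o, o), 0, 0)).1 := by
  decide +kernel

theorem hcert_ok : ∀ e ∈ hcert, conjW e.2 (lB e.1) = lB t₀ ∧ ∀ i ∈ e.2, 3 ≤ i ∧ i < 15 := by
  decide +kernel

theorem hcert_cover : ∀ t : U3, mulT t t = (o, o, o) → t = (o, o, o) ∨ t ∈ hcert.map (·.1) := by
  decide +kernel

theorem xcert_ok : ∀ e ∈ xcert, conjW e.2.1 (mulB (uB (herm e.1)) (lB t₀)) = uB (herm e.2.2) ∧
    ∀ i ∈ e.2.1, i < 24 := by decide +kernel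

theorem xcert_cover : ∀ p : P9, herm p + act (hM t₀) (herm p) = z3 → p ∈ xcert.map (·.1) := by
  decide +kernel

theorem root_left : ∀ a : E4, ∃ p : P9, mulB (mulB (gen 1) (lB (a, o, o))) (gen 1) = uB (herm p) := by
  decide +kernel

theorem root_right : ∀ b c : E4,
    ∃ p : P9, mulB (mulB (gen 2) (lB (o, b, c))) (gen 2) = uB (herm p) := by
  decide +kernel

theorem root_norm : ∀ a b c : E4, ∃ b' c' : E4,
    mulT (mulT (a, o, o) (o, b, c)) (a, o, o) = (o, b', c') := by decide +kernel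

theorem root_split : ∀ t : U3, ∃ b : E4, t = mulT (o, b, t.2.2) (t.1, o, o) := by decide +kernel

end Cfsg.Agent.ThreeTransp.U62Cover.Model
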