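import Cfsg.Agent.Lib.Classical.UnitaryGen
import Cfsg.Agent.Lib.ThreeTransp.U62Cover.Model

/-!
`SU(6, 2)` in a hyperbolic basis: the generators, the root subgroup and the Levi unitriangular
subgroup as matrices over a field with four elements.
-/

set_option autoImplicit false
set_option linter.unusedSectionVars false
set_option linter.unusedSimpArgs false
set_option linter.unreachableTactic false
set_option linter.unusedTactic false
set_option synthInstance.maxSize 4096
set_option synthInstance.maxHeartbeats 400000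
set_option linter.style.haveILetI false

namespace Cfsg.Agent.ThreeTransp.U62Cover.Model

open Matrix Cfsg.Agent.Classical.Unitary
open Cfsg.Agent.Forms.SU32 (E4 o l w v mE V3 M3 mulM rowMul tr cj)

/-- A cube root of unity in a field with four elements. -/
structure Setup (F : Type*) [Field F] [Fintype F] where
  /-- the root -/
  ω : F
  card : Fintype.card F = 2 ^ 2
  hω : ω ^ 2 + ω + 1 = 0
  two : (2 : F) = 0

variable {F : Type*} [Field F] [Fintype F] (X : Setup F)

local notation "Mat6" => Matrix (Fin 6) (Fin 6) F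
local notation "MatB" => Matrix (Fin 3 ⊕ Fin 3) (Fin 3 ⊕ Fin 3) F

namespace Setup

include X in
theorem charP : CharP F 2 := CharTwo.of_one_ne_zero_of_two_eq_zero one_ne_zero X.two

/-- The prime field inside. -/
def prime : ZMod 2 →+* F :=
  haveI := X.charP
  ZMod.castHom dvd_rfl F

/-- The conjugation. -/
noncomputable def σ : F →+* F := Cfsg.Agent.Forms.HermStd.qHom X.card

theorem σ_apply (x : F) : X.σ x = x ^ 2 := Cfsg.Agent.Forms.HermStd.qHom_apply X.card x

theorem σ_σ (x : F) : X.σ (X.σ x) = x := Cfsg.Agent.Forms.HermStd.qHom_qHom X.card x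

/-- The field from pairs. -/
def ι (x : E4) : F := X.prime x.1 + X.prime x.2 * X.ω

theorem ι_add (x y : E4) : X.ι (x + y) = X.ι x + X.ι y := by
  simp only [ι, Prod.fst_add, Prod.snd_add, map_add]
  ring

theorem ι_mul (x y : E4) : X.ι (mE x y) = X.ι x * X.ι y := by
  simp only [ι, mE, map_add, map_mul]
  linear_combination (-(X.prime x.2 * X.prime y.2)) * X.hω +
    (X.prime x.2 * X.prime y.2 * (1 + X.ω)) * X.two

theorem ι_o : X.ι o = 0 := by simp [ι]

theorem ι_l : X.ι l = 1 := by simp [ι]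

theorem ι_cE (x : E4) : X.ι (cE x) = X.σ (X.ι x) := by
  rw [cE, X.ι_mul, X.σ_apply, sq]

theorem ω_ne : X.ω ≠ 0 ∧ X.ω ≠ 1 := by
  constructor <;> intro h <;> have := X.hω <;> rw [h] at this
  · simp at this
  · exact one_ne_zero (α := F) (by linear_combination this - X.two)

theorem ι_eq_zero {x : E4} (h : X.ι x = 0) : x = o := by
  obtain ⟨h0, h1⟩ := X.ω_ne
  have hm : ∀ a : ZMod 2, a = 0 ∨ a = 1 := by decide
  obtain ⟨a, b⟩ := x
  rcases hm a with rfl | rfl <;> rcases hm b with rfl | rfl <;> simp [ι] at h ⊢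
  · exact h0 h
  · exact h1 (by linear_combination h - X.two)

theorem ι_inj {x y : E4} (h : X.ι x = X.ι y) : x = y := by
  have e : ∀ a b : E4, a + b = o → a = b := by decide
  refine e x y (X.ι_eq_zero ?_)
  rw [X.ι_add, h]
  linear_combination (X.ι y) * X.two

/-- Three by three matrices. -/
def toM (A : M3) : Matrix (Fin 3) (Fin 3) F :=
  !![X.ι A.1.1, X.ι A.1.2.1, X.ι A.1.2.2; X.ι A.2.1.1, X.ι A.2.1.2.1, X.ι A.2.1.2.2;
    X.ι A.2.2.1, X.ι A.2.2.2.1, X.ι A.2.2.2.2]

theorem toM_mul (A B : M3) : X.toM (mulM A B) = X.toM A * X.toM B := by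
  simp only [toM, mulM, rowMul, X.ι_add, X.ι_mul, Matrix.mul_fin_three]

theorem toM_add (A B : M3) : X.toM (A + B) = X.toM A + X.toM B := by
  ext i j
  fin_cases i <;> fin_cases j <;> simp [toM, X.ι_add]

theorem toM_tr (A : M3) : X.toM (tr A) = (X.toM A)ᵀ := by
  ext i j
  fin_cases i <;> fin_cases j <;> simp [toM, tr]

theorem toM_cj (A : M3) : X.toM (cj A) = (X.toM A).map X.σ := by
  ext i j
  fin_cases i <;> fin_cases j <;> simp [toM, cj, X.ι_mul, X.σ_apply, sq]

theorem toM_one : X.toM one3 = 1 := by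
  simp only [toM, X.ι_o, X.ι_l, Matrix.one_fin_three]

theorem toM_zero : X.toM z3 = 0 := by
  ext i j
  fin_cases i <;> fin_cases j <;> simp [toM, X.ι_o]

theorem toM_inj {A B : M3} (h : X.toM A = X.toM B) : A = B := by
  have e := fun i j => X.ι_inj (x := (![![A.1.1, A.1.2.1, A.1.2.2],
      ![A.2.1.1, A.2.1.2.1, A.2.1.2.2], ![A.2.2.1, A.2.2.2.1, A.2.2.2.2]] : Fin 3 → Fin 3 → E4) i j)
    (y := (![![B.1.1, B.1.2.1, B.1.2.2],
      ![B.2.1.1, B.2.1.2.1, B.2.1.2.2], ![B.2.2.1, B.2.2.2.1, B.2.2.2.2]] : Fin 3 → Fin 3 → E4) i j)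
    (by
      have h' := congrFun (congrFun h i) j
      fin_cases i <;> fin_cases j <;> simpa [toM] using h')
  exact Prod.ext (Prod.ext (e 0 0) (Prod.ext (e 0 1) (e 0 2)))
    (Prod.ext (Prod.ext (e 1 0) (Prod.ext (e 1 1) (e 1 2)))
      (Prod.ext (e 2 0) (Prod.ext (e 2 1) (e 2 2))))

/-- Block matrices. -/
def toB (b : Blk) : MatB := fromBlocks (X.toM b.1) (X.toM b.2.1) (X.toM b.2.2.1) (X.toM b.2.2.2)

theorem toB_mul (a b : Blk) : X.toB (mulB a b) = X.toB a * X.toB b := by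
  simp [toB, mulB, fromBlocks_multiply, X.toM_mul, X.toM_add]

theorem toB_one : X.toB oneB = 1 := by simp [toB, X.toM_one, X.toM_zero, fromBlocks_one]

theorem toB_trB (b : Blk) : X.toB (trB b) = (X.toB b)ᵀ := by
  simp [toB, trB, X.toM_tr, fromBlocks_transpose]

theorem toB_cjB (b : Blk) : X.toB (cjB b) = (X.toB b).map X.σ := by
  simp [toB, cjB, X.toM_cj, fromBlocks_map]

theorem toB_inj {a b : Blk} (h : X.toB a = X.toB b) : a = b := by
  obtain ⟨h1, h2, h3, h4⟩ := fromBlocks_inj.1 h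
  exact Prod.ext (X.toM_inj h1) (Prod.ext (X.toM_inj h2) (Prod.ext (X.toM_inj h3) (X.toM_inj h4)))

/-- The hyperbolic basis. -/
def P : Matrix (Fin 6) (Fin 3 ⊕ Fin 3) F :=
  Matrix.of fun r c => Sum.elim (fun i : Fin 3 => if (r : ℕ) / 2 = i then 1 else 0)
    (fun i : Fin 3 => if (r : ℕ) / 2 = i then (if (r : ℕ) % 2 = 0 then X.ω else X.ω ^ 2) else 0) c

theorem P_form : (X.P)ᵀ * (X.P).map X.σ = X.toB JB := by
  have h4 : X.ω ^ 4 = X.ω := by linear_combination (X.ω ^ 2 - X.ω) * X.hω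
  have e1 : X.ω + X.ω ^ 2 = 1 := by linear_combination X.hω - X.two
  have e2 : X.ω * X.ω ^ 2 + X.ω ^ 2 * (X.ω ^ 2) ^ 2 = 0 := by
    linear_combination (X.ω ^ 4 - X.ω ^ 3 + X.ω - 1 + (X.ω - 1)) * X.hω + X.two
  ext i j
  rcases i with i | i <;> rcases j with j | j <;> fin_cases i <;> fin_cases j <;>
    simp [Matrix.mul_apply, Fin.sum_univ_six, P, toB, toM, JB, one3, z3, X.ι_o, X.ι_l, X.σ_apply] <;>
    first
      | linear_combination X.two
      | linear_combination e2
      | linear_combination e1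
      | linear_combination e1 + h4
      | linear_combination e1 + X.ω * 0

/-- The inverse of the change of basis. -/
noncomputable def Q : Matrix (Fin 3 ⊕ Fin 3) (Fin 6) F := X.toB JB * ((X.P).map X.σ)ᵀ

theorem JB_sq : X.toB JB * X.toB JB = 1 := by
  rw [← X.toB_mul, show mulB JB JB = oneB by decide, X.toB_one]

theorem Q_P : X.Q * X.P = 1 := by
  have h := congrArg Matrix.transpose X.P_form
  rw [Matrix.transpose_mul, Matrix.transpose_transpose] at h
  rw [Q, Matrix.mul_assoc, h, ← X.toB_trB, show trB JB = JB by decide, X.JB_sq]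

theorem P_Q : X.P * X.Q = 1 := (Matrix.mul_eq_one_comm_of_equiv finSumFinEquiv.symm).2 X.Q_P

/-- An element read in the hyperbolic basis. -/
noncomputable def cd (g : Cfsg.SU 6 F 2) : MatB := X.Q * mat g * X.P

theorem cd_mul (g h : Cfsg.SU 6 F 2) : X.cd (g * h) = X.cd g * X.cd h := by
  rw [cd, cd, cd, mat_mul]
  calc X.Q * (mat g * mat h) * X.P = X.Q * mat g * (X.P * X.Q) * mat h * X.P := by
        rw [X.P_Q]; simp [Matrix.mul_assoc]
    _ = _ := by simp only [Matrix.mul_assoc]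

theorem cd_one : X.cd 1 = 1 := by rw [cd, mat_one, Matrix.mul_one, X.Q_P]

theorem cd_inj {g h : Cfsg.SU 6 F 2} (e : X.cd g = X.cd h) : g = h := by
  have r : ∀ k : Cfsg.SU 6 F 2, X.P * X.cd k * X.Q = mat k := fun k => by
    rw [cd]
    calc X.P * (X.Q * mat k * X.P) * X.Q = (X.P * X.Q) * mat k * (X.P * X.Q) := by
          simp only [Matrix.mul_assoc]
      _ = mat k := by rw [X.P_Q, Matrix.one_mul, Matrix.mul_one]
  exact Subtype.ext (Subtype.ext (by
    show mat g = mat h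
    rw [← r g, ← r h, e]))

/-- Involutory block matrices preserving the form lift. -/
theorem exists_lift {b : Blk} (h1 : mulB b b = oneB) (h2 : mulB (mulB (trB b) JB) (cjB b) = JB) :
    ∃ g : Cfsg.SU 6 F 2, X.cd g = X.toB b := by
  have h1' : X.toB b * X.toB b = 1 := by rw [← X.toB_mul, h1, X.toB_one]
  have h2' : (X.toB b)ᵀ * X.toB JB * (X.toB b).map X.σ = X.toB JB := by
    rw [← X.toB_trB, ← X.toB_cjB, ← X.toB_mul, ← X.toB_mul, h2]
  set M : Mat6 := X.P * X.toB b * X.Q with hM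
  have hMM : M * M = 1 := by
    calc M * M = X.P * X.toB b * (X.Q * X.P) * X.toB b * X.Q := by simp only [hM, Matrix.mul_assoc]
      _ = X.P * (X.toB b * X.toB b) * X.Q := by
        rw [X.Q_P, Matrix.mul_one]; simp only [Matrix.mul_assoc]
      _ = 1 := by rw [h1', Matrix.mul_one, X.P_Q]
  have hdet : M.det = 1 := by
    have h : M.det * M.det = 1 := by rw [← Matrix.det_mul, hMM, Matrix.det_one]
    have h' : (M.det - 1) * (M.det - 1) = 0 := by linear_combination h + (1 - M.det) * X.two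
    exact sub_eq_zero.1 (mul_self_eq_zero.1 h')
  have hPQ : (X.Q)ᵀ * X.toB JB * (X.Q).map X.σ = 1 := by
    calc (X.Q)ᵀ * X.toB JB * (X.Q).map X.σ
        = (X.Q)ᵀ * ((X.P)ᵀ * (X.P).map X.σ) * (X.Q).map X.σ := by rw [X.P_form]
      _ = (X.P * X.Q)ᵀ * (X.P * X.Q).map X.σ := by
        rw [Matrix.transpose_mul, Matrix.map_mul]; simp only [Matrix.mul_assoc]
      _ = 1 := by rw [X.P_Q]; simp
  have hpres : Mᵀ * M.map X.σ = 1 := by
    calc Mᵀ * M.map X.σ
        = (X.Q)ᵀ * ((X.toB b)ᵀ * ((X.P)ᵀ * (X.P).map X.σ) * (X.toB b).map X.σ) * (X.Q).map X.σ := by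
          simp only [hM, Matrix.transpose_mul, Matrix.map_mul, Matrix.mul_assoc]
      _ = 1 := by rw [X.P_form, h2', hPQ]
  refine ⟨suMk M hdet ((preserves_iff X.card M).2 hpres), ?_⟩
  show X.Q * M * X.P = _
  calc X.Q * M * X.P = (X.Q * X.P) * X.toB b * (X.Q * X.P) := by simp only [hM, Matrix.mul_assoc]
    _ = _ := by rw [X.Q_P, Matrix.one_mul, Matrix.mul_one]

include X in
theorem gen_ok (i : ℕ) : mulB (gen i) (gen i) = oneB ∧
    mulB (mulB (trB (gen i)) JB) (cjB (gen i)) = JB := by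
  rcases lt_or_ge i 24 with h | h
  · refine ⟨gens_sq ⟨i, h⟩, X.toB_inj ?_⟩
    have e : X.toB (jT (gen i)) = (X.toB (gen i))ᵀ * X.toB JB := by
      simp [toB, jT, X.toM_tr, X.toM_zero, X.toM_one, fromBlocks_transpose, fromBlocks_multiply]
    rw [X.toB_mul, X.toB_mul, X.toB_trB, ← e, ← X.toB_mul, gens_form ⟨i, h⟩]
  · rw [gen, List.getD_eq_default _ _ (show gens.length ≤ i from h)]
    decide

/-- The generators. -/
noncomputable def G (i : ℕ) : Cfsg.SU 6 F 2 :=
  Classical.choose (X.exists_lift (X.gen_ok i).1 (X.gen_ok i).2)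

theorem cd_G (i : ℕ) : X.cd (X.G i) = X.toB (gen i) :=
  Classical.choose_spec (X.exists_lift (X.gen_ok i).1 (X.gen_ok i).2)

theorem G_sq (i : ℕ) : X.G i * X.G i = 1 :=
  X.cd_inj (by rw [X.cd_mul, X.cd_G, ← X.toB_mul, (X.gen_ok i).1, X.toB_one, X.cd_one])

theorem G_inv (i : ℕ) : (X.G i)⁻¹ = X.G i := inv_eq_of_mul_eq_one_right (X.G_sq i)

/-- The product of a word. -/
noncomputable def GW (ws : List ℕ) : Cfsg.SU 6 F 2 := (ws.map X.G).prod

theorem cd_GW_aux (ws : List ℕ) : ∀ (a : Cfsg.SU 6 F 2) (b : Blk), X.cd a = X.toB b →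
    X.cd (a * X.GW ws) = X.toB (ws.foldl (fun c i => mulB c (gen i)) b) := by
  induction ws with
  | nil => intro a b h; simpa [GW] using h
  | cons i ws ih =>
    intro a b h
    rw [List.foldl_cons, ← ih (a * X.G i) (mulB b (gen i)) (by rw [X.cd_mul, h, X.cd_G, X.toB_mul])]
    simp [GW, mul_assoc]

theorem cd_GW (ws : List ℕ) : X.cd (X.GW ws) = X.toB (prodW ws) := by
  simpa [prodW] using X.cd_GW_aux ws 1 oneB (by rw [X.cd_one, X.toB_one])

theorem exists_conjW (ws : List ℕ) : ∀ (a : Cfsg.SU 6 F 2) (b : Blk), X.cd a = X.toB b →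
    ∃ k : Cfsg.SU 6 F 2, (∀ S : Submonoid (Cfsg.SU 6 F 2), (∀ i ∈ ws, X.G i ∈ S) → k ∈ S) ∧
      X.cd (k * a * k⁻¹) = X.toB (conjW ws b) := by
  induction ws with
  | nil => intro a b h; exact ⟨1, fun S _ => S.one_mem, by simpa [conjW] using h⟩
  | cons i ws ih =>
    intro a b h
    obtain ⟨k, hk, e⟩ := ih (X.G i * a * (X.G i)⁻¹) (mulB (mulB (gen i) b) (gen i))
      (by rw [X.G_inv, X.cd_mul, X.cd_mul, h, X.cd_G, X.toB_mul, X.toB_mul])
    refine ⟨k * X.G i, fun S hS => S.mul_mem (hk S fun j hj => hS j (List.mem_cons_of_mem _ hj))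
      (hS i List.mem_cons_self), ?_⟩
    rw [_root_.mul_inv_rev]
    show _ = X.toB (conjW ws (mulB (mulB (gen i) b) (gen i)))
    rw [← e]
    group

/-! ### The root subgroup -/

theorem herm_add (p q : P9) : herm (p + q) = herm p + herm q := by
  have h : ∀ x y : E4, cE (x + y) = cE x + cE y := by decide
  simp [herm, h]

theorem herm_inj {p q : P9} (h : herm p = herm q) : p = q := by
  simp only [herm, Prod.ext_iff] at h ⊢
  tauto

theorem hM_inj {s t : U3} (h : hM s = hM t) : s = t := by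
  simp only [hM, Prod.ext_iff] at h ⊢
  tauto

/-- The elements of the root subgroup. -/
noncomputable def U (p : P9) : Cfsg.SU 6 F 2 := X.GW (wordP p)

theorem cd_root (ws : List ℕ) (h : ∀ i ∈ ws, 15 ≤ i ∧ i < 24) :
    X.cd (X.GW ws) = X.toB (uB (ws.map fun i => (gen i).2.1).sum) := by
  induction ws with
  | nil =>
    rw [GW, List.map_nil, List.prod_nil, X.cd_one, List.map_nil, List.sum_nil]
    exact X.toB_one.symm
  | cons i ws ih =>
    obtain ⟨h1, h2⟩ := h i List.mem_cons_self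
    have hg : gen i = uB (gen i).2.1 := by
      obtain ⟨j, rfl⟩ := Nat.exists_eq_add_of_le h1
      exact gens_u ⟨j, by omega⟩
    rw [GW, List.map_cons, List.prod_cons, ← GW, X.cd_mul, X.cd_G,
      ih fun j hj => h j (List.mem_cons_of_mem _ hj), hg, List.map_cons, List.sum_cons]
    simp [toB, uB, X.toM_one, X.toM_zero, fromBlocks_multiply, X.toM_add, add_comm]

theorem cd_U (p : P9) :
    X.cd (X.U p) = fromBlocks 1 (X.toM (herm p)) 0 1 := by
  rw [U, X.cd_root _ (herm_word p).2, (herm_word p).1]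
  simp [toB, uB, X.toM_one, X.toM_zero]

theorem U_mul (p q : P9) : X.U p * X.U q = X.U (p + q) := by
  refine X.cd_inj ?_
  simp [X.cd_mul, X.cd_U, fromBlocks_multiply, herm_add, X.toM_add, add_comm]

theorem U_inj {p q : P9} (h : X.U p = X.U q) : p = q := by
  have e := congrArg X.cd h
  rw [X.cd_U, X.cd_U] at e
  exact herm_inj (X.toM_inj (fromBlocks_inj.1 e).2.1)

theorem U_zero : X.U 0 = 1 := by
  have h := X.U_mul 0 0
  rw [add_zero] at h
  exact mul_eq_left.1 h

theorem add_self_P9 (p : P9) : p + p = 0 := by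
  have h : ∀ x : ZMod 2, x + x = 0 := by decide
  ext <;> exact h _

theorem U_sq (p : P9) : X.U p * X.U p = 1 := by rw [X.U_mul, add_self_P9, X.U_zero]

/-- A block diagonal element normalises the root subgroup. -/
theorem diag_conj {g : Cfsg.SU 6 F 2} {h k : M3} (hg : X.cd g = X.toB (h, z3, z3, k))
    (hd : mulM (tr h) (cj k) = one3) (p : P9) :
    ∃ q : P9, herm q = act h (herm p) ∧ g * X.U p = X.U q * g := by
  have hσσ : ∀ A : Matrix (Fin 3) (Fin 3) F, (A.map X.σ).map X.σ = A := fun A => by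
    ext i j; simp [X.σ_σ]
  have hHerm : ((X.toM (herm p)).map X.σ)ᵀ = X.toM (herm p) := by
    have e : ∀ x : E4, cE (cE x) = x := by decide
    have e' : ∀ a : ZMod 2, mE ((a, 0) : E4) (a, 0) = (a, 0) := by decide
    rw [← X.toM_cj, ← X.toM_tr]
    have f : ∀ x : E4, mE x x = cE x := fun _ => rfl
    simp only [herm, tr, cj, f, e]
    simp only [← f, e']
  set Y := act h (herm p) with hY
  have hYM : X.toM Y = X.toM h * X.toM (herm p) * ((X.toM h).map X.σ)ᵀ := by
    rw [hY, act, X.toM_mul, X.toM_mul, X.toM_tr, X.toM_cj]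
  have hYh : tr (cj Y) = Y := by
    refine X.toM_inj ?_
    rw [X.toM_tr, X.toM_cj, hYM]
    rw [Matrix.map_mul, Matrix.map_mul, Matrix.transpose_map, hσσ, Matrix.transpose_mul,
      Matrix.transpose_mul, Matrix.transpose_transpose, hHerm, Matrix.mul_assoc]
  obtain ⟨q, hq⟩ : ∃ q : P9, herm q = Y := by
    obtain ⟨⟨a11, a12, a13⟩, ⟨a21, a22, a23⟩, a31, a32, a33⟩ := Y
    simp only [tr, cj, Prod.mk.injEq] at hYh
    obtain ⟨⟨d1, -, -⟩, ⟨e1, d2, -⟩, e2, e3, d3⟩ := hYh
    refine ⟨((a11.1, a22.1, a33.1), a12, a13, a23), ?_⟩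
    simp only [herm, cE, Prod.mk.injEq, e1, e2, e3, and_true, true_and]
    exact ⟨(diag_fixed _ d1).symm, (diag_fixed _ d2).symm, (diag_fixed _ d3).symm⟩
  refine ⟨q, hq, X.cd_inj ?_⟩
  have hk : ((X.toM h).map X.σ)ᵀ * X.toM k = 1 := by
    have := congrArg X.toM hd
    rw [X.toM_mul, X.toM_tr, X.toM_cj, X.toM_one] at this
    have := congrArg (fun A => Matrix.map A X.σ) this
    simp only [Matrix.map_mul, hσσ] at this
    rw [Matrix.transpose_map] at this
    simpa using this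
  simp only [X.cd_mul, hg, X.cd_U, toB, X.toM_zero, fromBlocks_multiply, hq, hYM, Matrix.mul_zero,
    Matrix.zero_mul, Matrix.mul_one, Matrix.one_mul, add_zero, zero_add, Matrix.mul_assoc, hk]

/-! ### The Levi unitriangular subgroup -/

/-- The unitriangular Levi elements. -/
noncomputable def L (t : U3) : Cfsg.SU 6 F 2 := X.GW (wordT t)

theorem cd_L (t : U3) : X.cd (X.L t) = X.toB (lB t) := by rw [L, X.cd_GW, lB_word]

theorem L_mul (s t : U3) : X.L s * X.L t = X.L (mulT s t) := by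
  refine X.cd_inj ?_
  obtain ⟨h1, h2⟩ := hM_mul s t
  simp [X.cd_mul, X.cd_L, toB, lB, X.toM_zero, fromBlocks_multiply, ← X.toM_mul, h1, h2]

theorem L_zero : X.L (o, o, o) = 1 := by
  have h := X.L_mul (o, o, o) (o, o, o)
  rw [show mulT ((o, o, o) : U3) (o, o, o) = (o, o, o) by decide] at h
  exact mul_eq_left.1 h

theorem L_conj (t : U3) (p : P9) :
    ∃ q : P9, herm q = act (hM t) (herm p) ∧ X.L t * X.U p = X.U q * X.L t :=
  X.diag_conj (X.cd_L t) (hM_dual t) p

theorem UL_inj {p q : P9} {s t : U3} (h : X.U p * X.L s = X.U q * X.L t) : p = q ∧ s = t := by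
  have e := congrArg X.cd h
  simp only [X.cd_mul, X.cd_U, X.cd_L, toB, lB, X.toM_zero, fromBlocks_multiply, Matrix.mul_zero,
    Matrix.zero_mul, Matrix.one_mul, add_zero, zero_add] at e
  have hs : s = t := hM_inj (X.toM_inj (fromBlocks_inj.1 e).1)
  subst hs
  exact ⟨X.U_inj (mul_right_cancel h), rfl⟩

theorem gen_diag {i : ℕ} (h1 : 3 ≤ i) (h2 : i < 15) :
    X.cd (X.G i) = X.toB ((gen i).1, z3, z3, (gen i).2.2.2) ∧
      mulM (tr (gen i).1) (cj (gen i).2.2.2) = one3 := by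
  obtain ⟨j, rfl⟩ := Nat.exists_eq_add_of_le h1
  obtain ⟨e1, e2⟩ := gens_lev ⟨j, by omega⟩
  have hb : gen (3 + j) = ((gen (3 + j)).1, z3, z3, (gen (3 + j)).2.2.2) :=
    Prod.ext rfl (Prod.ext e1 (Prod.ext e2 rfl))
  refine ⟨by rw [X.cd_G]; exact congrArg _ hb, ?_⟩
  have h := congrArg X.toB (X.gen_ok (3 + j)).2
  rw [hb] at h
  rw [X.toB_mul, X.toB_mul, X.toB_trB, X.toB_cjB] at h
  simp only [toB, X.toM_zero, X.toM_one, fromBlocks_transpose, fromBlocks_map, fromBlocks_multiply,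
    Matrix.transpose_zero, Matrix.mul_zero, Matrix.zero_mul, Matrix.mul_one, Matrix.map_zero _
    (map_zero X.σ), add_zero, zero_add] at h
  refine X.toM_inj ?_
  rw [X.toM_mul, X.toM_tr, X.toM_cj, X.toM_one]
  exact (fromBlocks_inj.1 h).2.1

theorem G_conj {i : ℕ} (h1 : 3 ≤ i) (h2 : i < 15) (p : P9) :
    ∃ q : P9, herm q = act (gen i).1 (herm p) ∧ X.G i * X.U p = X.U q * X.G i :=
  X.diag_conj (X.gen_diag h1 h2).1 (X.gen_diag h1 h2).2 p

end Setup

end Cfsg.Agent.ThreeTransp.U62Cover.Model
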