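import Cfsg.Agent.Lib.ThreeTransp.U62Cover.Base

/-!
The conjugates of the involution inside the preimage of the large elementary abelian subgroup: the
normalizer permutes them transitively and their number is restricted by the classes in `E`.
-/

set_option autoImplicit false
set_option linter.unusedSectionVars false
set_option linter.style.haveILetI false

namespace Cfsg.Agent.ThreeTransp.U62Cover

variable {G Q : Type*} [Group G] [Finite G] [Group Q] {C : Subgroup G}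

namespace Cover

variable (X : Cover C Q)

/-- Being conjugate to the involution, on the centraliser. -/
def P (c : ↥C) : Prop := IsConj X.d (c : G)

/-- The conjugates of the involution in `A`. -/
def Ω : Set G := {x | x ∈ X.A ∧ IsConj X.d x}

/-- The conjugates over the class `i`. -/
def M (i : Fin 3) : Set ↥C := {c | X.f c ∈ X.D.O i ∧ X.P c}

theorem P_conj (t c : ↥C) : X.P (t * c * t⁻¹) ↔ X.P c := by
  have h : IsConj (c : G) ((t * c * t⁻¹ : ↥C) : G) := isConj_iff.2 ⟨(t : G), rfl⟩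
  exact ⟨fun h' => h'.trans h.symm, fun h' => h'.trans h⟩

theorem P_dd : X.P X.dd := IsConj.refl _

theorem not_P_one : ¬ X.P 1 := by
  intro h
  obtain ⟨g, hg⟩ := isConj_iff.1 h
  rw [Subgroup.coe_one, mul_inv_eq_one] at hg
  exact X.d_ne (mul_left_cancel (hg.trans (mul_one g).symm))

theorem not_P_sq (t : ↥C) : ¬ X.P (t * t) := by
  intro h
  obtain ⟨g, hg⟩ := isConj_iff.1 h.symm
  refine X.not_sq ⟨g * t * g⁻¹, ?_⟩
  rw [← hg, Subgroup.coe_mul]
  group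

/-- Squaring gives a non-conjugate. -/
theorem exists_not_P {r : Q} (h : ∃ g : Q, g * g = r) : ∃ c : ↥C, X.f c = r ∧ ¬ X.P c := by
  obtain ⟨g, hg⟩ := h
  obtain ⟨t, ht⟩ := X.surj g
  exact ⟨t * t, by rw [map_mul, ht, hg], X.not_P_sq t⟩

/-- Elementary abelian subgroups of order `2 ^ 10` of the centraliser are conjugate to `A`. -/
theorem uniq {B : Subgroup G} (hB : B ≤ C) (hsq : ∀ x ∈ B, x * x = 1)
    (hcard : Nat.card ↥B = 2 ^ 10) :
    ∃ c : ↥C, B = X.A.map (MulAut.conj (c : G)).toMonoidHom := by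
  haveI : Fact (Nat.Prime 2) := ⟨Nat.prime_two⟩
  have hsq' : ∀ x ∈ B.subgroupOf C, x * x = 1 := fun x hx =>
    Subtype.ext (hsq _ (Subgroup.mem_subgroupOf.1 hx))
  have hc' : Nat.card ↥(B.subgroupOf C) = 2 ^ 10 := by
    rw [Nat.card_congr (Subgroup.subgroupOfEquivOfLe hB).toEquiv, hcard]
  obtain ⟨S, hS⟩ := (IsPGroup.of_card hc').exists_le_sylow
  obtain ⟨c, hc⟩ := X.exists_sylow S
  refine ⟨c, ?_⟩
  have h := X.max_conj (hc ▸ hS) hsq' hc'.ge
  rw [← Subgroup.map_subgroupOf_eq_of_le hB, h, A, Subgroup.map_map, Subgroup.map_map]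
  rfl

/-- The normalizer of `A` is transitive on the conjugates of the involution in `A`. -/
theorem trans {x : G} (hx : x ∈ X.A) (hxd : IsConj X.d x) :
    ∃ n ∈ Subgroup.normalizer (X.A : Set G), n * X.d * n⁻¹ = x := by
  obtain ⟨g, hg⟩ := isConj_iff.1 hxd
  set B := X.A.map (MulAut.conj g⁻¹).toMonoidHom with hB
  have hBC : B ≤ C := by
    rintro _ ⟨a, ha, rfl⟩
    rw [X.mem]
    have hax : a * (g * X.d * g⁻¹) = g * X.d * g⁻¹ * a := by rw [hg]; exact X.comm_A ha hx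
    show g⁻¹ * a * g⁻¹⁻¹ * X.d = X.d * (g⁻¹ * a * g⁻¹⁻¹)
    calc g⁻¹ * a * g⁻¹⁻¹ * X.d = g⁻¹ * (a * (g * X.d * g⁻¹)) * g := by group
      _ = g⁻¹ * (g * X.d * g⁻¹ * a) * g := by rw [hax]
      _ = _ := by group
  have hBsq : ∀ y ∈ B, y * y = 1 := by
    rintro _ ⟨a, ha, rfl⟩
    rw [← map_mul, X.sq_A ha, map_one]
  obtain ⟨c, hc⟩ := X.uniq hBC hBsq (by
    rw [hB, Subgroup.card_map_of_injective (MulAut.conj g⁻¹).injective, X.card_A])
  refine ⟨g * c, ?_, ?_⟩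
  · have hmap : X.A.map (MulAut.conj (g * (c : G))).toMonoidHom = X.A := by
      have h1 := congrArg (Subgroup.map (MulAut.conj g).toMonoidHom) hc
      rw [hB, Subgroup.map_map, Subgroup.map_map] at h1
      rw [show ((MulAut.conj g).toMonoidHom).comp (MulAut.conj g⁻¹).toMonoidHom = MonoidHom.id _ from
        MonoidHom.ext fun y => by simp [mul_assoc], Subgroup.map_id] at h1
      rw [show (MulAut.conj (g * (c : G))).toMonoidHom =
        ((MulAut.conj g).toMonoidHom).comp (MulAut.conj (c : G)).toMonoidHom from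
        MonoidHom.ext fun y => by simp [mul_assoc], ← h1]
    refine Subgroup.mem_normalizer_iff.2 fun h => ⟨fun hh => ?_, fun hh => ?_⟩
    · rw [← hmap]
      exact ⟨h, hh, rfl⟩
    · obtain ⟨a, ha, hah⟩ : _ ∈ X.A.map (MulAut.conj (g * (c : G))).toMonoidHom :=
        hmap.symm ▸ hh
      have : a = h := (MulAut.conj (g * (c : G))).injective hah
      exact this ▸ ha
  · rw [show g * (c : G) * X.d * (g * c)⁻¹ = g * ((c : G) * X.d * (c : G)⁻¹) * g⁻¹ by group,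
      (X.mem _).1 c.2, mul_inv_cancel_right, hg]

theorem conj_Ω {n : G} (hn : n ∈ Subgroup.normalizer (X.A : Set G)) (x : G) :
    n * x * n⁻¹ ∈ X.Ω ↔ x ∈ X.Ω := by
  have h : IsConj x (n * x * n⁻¹) := isConj_iff.2 ⟨n, rfl⟩
  exact and_congr ((Subgroup.mem_normalizer_iff.1 hn x).symm)
    ⟨fun h' => h'.trans h.symm, fun h' => h'.trans h⟩

theorem coe_mem_Ω {c : ↥C} : (c : G) ∈ X.Ω ↔ X.f c ∈ X.D.E ∧ X.P c := by
  refine and_congr ⟨fun h => ?_, fun h => X.mem_A.2 ⟨c.2, h⟩⟩ Iff.rfl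
  obtain ⟨_, hh⟩ := X.mem_A.1 h
  exact hh

/-- The three possibilities over a class. -/
theorem trichotomy (i : Fin 3) :
    (∀ c : ↥C, X.f c ∈ X.D.O i → X.P c) ∨
    (∀ c : ↥C, X.f c ∈ X.D.O i → (X.P (c * X.dd) ↔ ¬ X.P c)) ∨
    (∀ c : ↥C, X.f c ∈ X.D.O i → ¬ X.P c) := by
  have key : ∀ c c' : ↥C, X.f c ∈ X.D.O i → X.f c' ∈ X.D.O i →
      (X.P c' ↔ X.P c) ∧ (X.P (c' * X.dd) ↔ X.P (c * X.dd)) ∨
      (X.P c' ↔ X.P (c * X.dd)) ∧ (X.P (c' * X.dd) ↔ X.P c) := by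
    intro c c' hc hc'
    obtain ⟨g, -, hg⟩ := X.D.O_trans i _ hc _ hc'
    obtain ⟨t, rfl⟩ := X.surj g
    have hcz : t * c * t⁻¹ * X.dd = t * (c * X.dd) * t⁻¹ := by
      calc t * c * t⁻¹ * X.dd = t * c * (t⁻¹ * X.dd) := by group
        _ = t * c * (X.dd * t⁻¹) := by rw [X.dd_central]
        _ = _ := by group
    rcases X.eq_of_f (show X.f (t * c * t⁻¹) = X.f c' by rw [map_mul, map_mul, map_inv, hg]) with
      rfl | rfl
    · exact Or.inl ⟨X.P_conj t c, by rw [hcz]; exact X.P_conj t _⟩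
    · refine Or.inr ⟨by rw [hcz]; exact X.P_conj t _, ?_⟩
      rw [mul_assoc (t * c * t⁻¹), X.dd_sq, mul_one]
      exact X.P_conj t c
  by_cases h : ∀ c : ↥C, X.f c ∈ X.D.O i → X.P c
  · exact Or.inl h
  push Not at h
  obtain ⟨c, hc, hcP⟩ := h
  by_cases h2 : X.P (c * X.dd)
  · refine Or.inr (Or.inl fun c' hc' => ?_)
    rcases key c c' hc hc' with ⟨e1, e2⟩ | ⟨e1, e2⟩
    · rw [e2, e1]
      exact iff_of_true h2 hcP
    · rw [e2, e1]
      exact iff_of_false hcP fun h => h h2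
  · refine Or.inr (Or.inr fun c' hc' hP' => ?_)
    rcases key c c' hc hc' with ⟨e1, -⟩ | ⟨e1, -⟩
    · exact hcP (e1.1 hP')
    · exact h2 (e1.1 hP')

theorem not_all {i : Fin 3} (hi : i ≠ 2) : ¬ ∀ c : ↥C, X.f c ∈ X.D.O i → X.P c := by
  intro h
  obtain ⟨r, hr⟩ : (X.D.O i).Nonempty :=
    Set.nonempty_of_ncard_ne_zero (by rw [X.D.O_card]; fin_cases i <;> decide)
  obtain ⟨c, hc, hcP⟩ := X.exists_not_P (X.D.O_sq i hi r hr)
  exact hcP (h c (hc ▸ hr))

theorem pre_ncard (i : Fin 3) : {c : ↥C | X.f c ∈ X.D.O i}.ncard = 2 * classSize i := by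
  classical
  haveI : Finite Q := Finite.of_surjective X.f X.surj
  cases nonempty_fintype Q
  cases nonempty_fintype ↥C
  have h := Finset.card_eq_sum_card_fiberwise (f := X.f)
    (s := Finset.univ.filter fun c => X.f c ∈ X.D.O i) (t := (X.D.O i).toFinset)
    (fun c hc => by simpa using hc)
  have hf : ∀ r ∈ (X.D.O i).toFinset,
      ((Finset.univ.filter fun c => X.f c ∈ X.D.O i).filter fun c => X.f c = r).card = 2 := by
    intro r hr
    obtain ⟨c, rfl⟩ := X.surj r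
    rw [Finset.card_eq_two]
    refine ⟨c, c * X.dd, fun e => ?_, ?_⟩
    · exact X.d_ne (congrArg Subtype.val (mul_eq_left.1 e.symm))
    · ext c'
      simp only [Finset.mem_filter, Finset.mem_univ, true_and, Finset.mem_insert,
        Finset.mem_singleton]
      constructor
      · rintro ⟨-, he⟩
        exact X.eq_of_f he.symm
      · have h0 : X.f c ∈ X.D.O i := by simpa using hr
        rintro (rfl | rfl)
        · exact ⟨h0, rfl⟩
        · exact ⟨by rwa [map_mul, X.f_dd, mul_one], by rw [map_mul, X.f_dd, mul_one]⟩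
  rw [Finset.sum_congr rfl hf, Finset.sum_const, smul_eq_mul, ← Set.ncard_eq_toFinset_card'] at h
  rw [Set.ncard_eq_toFinset_card', show {c : ↥C | X.f c ∈ X.D.O i}.toFinset =
    Finset.univ.filter (fun c => X.f c ∈ X.D.O i) by ext; simp, h, X.D.O_card, mul_comm]

/-- The multiplicity over a class. -/
theorem mult (i : Fin 3) :
    ((∀ c : ↥C, X.f c ∈ X.D.O i → X.P c) ∧ (X.M i).ncard = 2 * classSize i) ∨
    ((∀ c : ↥C, X.f c ∈ X.D.O i → (X.P (c * X.dd) ↔ ¬ X.P c)) ∧ (X.M i).ncard = classSize i) ∨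
    ((∀ c : ↥C, X.f c ∈ X.D.O i → ¬ X.P c) ∧ (X.M i).ncard = 0) := by
  rcases X.trichotomy i with h | h | h
  · refine Or.inl ⟨h, ?_⟩
    rw [← X.pre_ncard i]
    exact congrArg Set.ncard (Set.ext fun c => and_iff_left_of_imp (h c))
  · refine Or.inr (Or.inl ⟨h, ?_⟩)
    have hinj : Function.Injective (fun c : ↥C => c * X.dd) := mul_left_injective _
    have h1 : {c : ↥C | X.f c ∈ X.D.O i} = X.M i ∪ (fun c => c * X.dd) '' X.M i := by
      ext c
      constructor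
      · intro hc
        by_cases hP : X.P c
        · exact Or.inl ⟨hc, hP⟩
        · refine Or.inr ⟨c * X.dd, ⟨by rwa [map_mul, X.f_dd, mul_one], (h c hc).2 hP⟩, ?_⟩
          show c * X.dd * X.dd = c
          rw [mul_assoc, X.dd_sq, mul_one]
      · rintro (hc | ⟨e, he, rfl⟩)
        · exact hc.1
        · show X.f (e * X.dd) ∈ X.D.O i
          rw [map_mul, X.f_dd, mul_one]
          exact he.1
    have h2 : Disjoint (X.M i) ((fun c => c * X.dd) '' X.M i) := by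
      rw [Set.disjoint_left]
      rintro _ ⟨-, hP⟩ ⟨e, he, rfl⟩
      exact (h e he.1).1 hP he.2
    have h3 := X.pre_ncard i
    rw [h1, Set.ncard_union_eq h2, Set.ncard_image_of_injective _ hinj] at h3
    omega
  · refine Or.inr (Or.inr ⟨h, ?_⟩)
    rw [Set.ncard_eq_zero]
    exact Set.eq_empty_iff_forall_notMem.2 fun c hc => h c hc.1 hc.2

theorem Ω_ncard : X.Ω.ncard = 1 + ((X.M 0).ncard + (X.M 1).ncard + (X.M 2).ncard) := by
  have hΩ : X.Ω = Subtype.val '' ({X.dd} ∪ (X.M 0 ∪ X.M 1 ∪ X.M 2)) := by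
    ext x
    constructor
    · rintro ⟨hxA, hxd⟩
      obtain ⟨hxC, hE⟩ := X.mem_A.1 hxA
      refine ⟨⟨x, hxC⟩, ?_, rfl⟩
      by_cases h1 : X.f ⟨x, hxC⟩ = 1
      · rcases (X.ker _).1 h1 with h2 | h2
        · exact absurd (h2 ▸ (hxd : X.P ⟨x, hxC⟩)) X.not_P_one
        · exact Or.inl (Subtype.ext h2)
      · obtain ⟨i, hi⟩ := X.D.O_cover _ hE h1
        refine Or.inr ?_
        fin_cases i
        exacts [Or.inl (Or.inl ⟨hi, hxd⟩), Or.inl (Or.inr ⟨hi, hxd⟩), Or.inr ⟨hi, hxd⟩]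
    · rintro ⟨c, hc, rfl⟩
      rcases hc with rfl | ((hc | hc) | hc)
      · exact ⟨X.d_mem_A, IsConj.refl _⟩
      all_goals exact X.coe_mem_Ω.2 ⟨(X.D.O_sub _ _ hc.1).1, hc.2⟩
  have hd : ∀ i j, i ≠ j → Disjoint (X.M i) (X.M j) := fun i j hij =>
    Set.disjoint_left.2 fun c hi hj => Set.disjoint_left.1 (X.D.O_disj i j hij) hi.1 hj.1
  have hdd : Disjoint ({X.dd} : Set ↥C) (X.M 0 ∪ X.M 1 ∪ X.M 2) := by
    rw [Set.disjoint_singleton_left]
    rintro ((h | h) | h) <;> exact (X.D.O_sub _ _ h.1).2 X.f_dd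
  rw [hΩ, Set.ncard_image_of_injective _ Subtype.val_injective, Set.ncard_union_eq hdd,
    Set.ncard_singleton, Set.ncard_union_eq (Set.disjoint_union_left.2 ⟨hd 0 2 (by decide),
      hd 1 2 (by decide)⟩), Set.ncard_union_eq (hd 0 1 (by decide))]

theorem one_lt (hnwc : ∃ g : G, g * X.d * g⁻¹ ∈ C ∧ g * X.d * g⁻¹ ≠ X.d) : 1 < X.Ω.ncard := by
  obtain ⟨g, hg, hne⟩ := hnwc
  set c : ↥C := ⟨g * X.d * g⁻¹, hg⟩ with hc
  have hcc : X.f c * X.f c = 1 := by
    rw [← map_mul, show c * c = 1 from Subtype.ext (by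
      show g * X.d * g⁻¹ * (g * X.d * g⁻¹) = 1
      rw [show g * X.d * g⁻¹ * (g * X.d * g⁻¹) = g * (X.d * X.d) * g⁻¹ by group, X.d_sq, mul_one,
        mul_inv_cancel]), map_one]
  obtain ⟨q, hq⟩ := X.D.conj_into _ hcc
  obtain ⟨t, rfl⟩ := X.surj q
  have hx : ((t * c * t⁻¹ : ↥C) : G) ∈ X.Ω :=
    X.coe_mem_Ω.2 ⟨by rwa [map_mul, map_mul, map_inv], (X.P_conj t c).2 (isConj_iff.2 ⟨g, rfl⟩)⟩
  rw [Set.one_lt_ncard]
  refine ⟨X.d, ⟨X.d_mem_A, IsConj.refl _⟩, _, hx, fun e => hne ?_⟩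
  have he : t * c * t⁻¹ = X.dd := Subtype.ext e.symm
  have he' : c = t⁻¹ * (X.dd * t) := by rw [← he]; group
  rw [← X.dd_central, inv_mul_cancel_left] at he'
  exact congrArg Subtype.val he'

/-- A prime dividing the number of conjugates in `A` acts on `A`. -/
theorem prime_bound {p : ℕ} (hp : p.Prime) (hdvd : p ∣ X.Ω.ncard) :
    ∃ j < 10, p ∣ 2 ^ 10 - 2 ^ j := by
  haveI : Fact p.Prime := ⟨hp⟩
  set R := (Subgroup.normalizerMonoidHom (H := X.A)).range with hR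
  set a : ↥X.A := ⟨X.d, X.d_mem_A⟩ with ha
  have horb : Subtype.val '' MulAction.orbit ↥R a = X.Ω := by
    ext x
    constructor
    · rintro ⟨_, ⟨⟨φ, hφ⟩, rfl⟩, rfl⟩
      obtain ⟨⟨n, hn⟩, rfl⟩ := hφ
      show n * X.d * n⁻¹ ∈ X.Ω
      exact (X.conj_Ω hn _).2 ⟨X.d_mem_A, IsConj.refl _⟩
    · rintro ⟨hx, hxd⟩
      obtain ⟨n, hn, hnx⟩ := X.trans hx hxd
      exact ⟨_, ⟨⟨_, ⟨⟨n, hn⟩, rfl⟩⟩, rfl⟩, hnx⟩
  have hcard : X.Ω.ncard ∣ Nat.card ↥R := by
    rw [← horb, Set.ncard_image_of_injective _ Subtype.val_injective, ← Nat.card_coe_set_eq,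
      Nat.card_congr (MulAction.orbitEquivQuotientStabilizer ↥R a), ← Subgroup.index]
    exact Subgroup.index_dvd_card _
  obtain ⟨⟨φ, hφR⟩, hφ⟩ := exists_prime_orderOf_dvd_card' (G := ↥R) p (hdvd.trans hcard)
  rw [← Subgroup.orderOf_coe] at hφ
  change orderOf φ = p at hφ
  set Fx : Subgroup ↥X.A := φ.toMonoidHom.eqLocus (MonoidHom.id ↥X.A) with hFx
  have hdiv : Nat.card ↥Fx ∣ 2 ^ 10 := X.card_A ▸ Subgroup.card_subgroup_dvd_card Fx
  obtain ⟨j, hj, hjc⟩ := (Nat.dvd_prime_pow Nat.prime_two).1 hdiv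
  have hj10 : j ≠ 10 := by
    rintro rfl
    have htop : Fx = ⊤ := Subgroup.eq_top_of_card_eq _ (hjc.trans X.card_A.symm)
    have h1 : φ = 1 := MulEquiv.ext fun y => (htop.ge (Subgroup.mem_top y) : y ∈ Fx)
    rw [h1, orderOf_one] at hφ
    exact hp.one_lt.ne hφ
  refine ⟨j, lt_of_le_of_ne hj hj10, ?_⟩
  have hP : IsPGroup p ↥(Subgroup.zpowers φ) :=
    IsPGroup.of_card (n := 1) (by rw [Nat.card_zpowers, hφ, pow_one])
  have hmod := hP.card_modEq_card_fixedPoints ↥X.A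
  have hfix : Nat.card ↥(MulAction.fixedPoints ↥(Subgroup.zpowers φ) ↥X.A) = Nat.card ↥Fx := by
    refine Nat.card_congr (Equiv.subtypeEquivRight fun y => ⟨fun h => h ⟨φ, Subgroup.mem_zpowers φ⟩,
      fun h => ?_⟩)
    rintro ⟨ψ, hψ⟩
    have : ψ ∈ MulAction.stabilizer (MulAut ↥X.A) y :=
      (Subgroup.zpowers_le.2 (show φ ∈ MulAction.stabilizer (MulAut ↥X.A) y from h)) hψ
    exact this
  rw [hfix, hjc, X.card_A] at hmod
  exact (Nat.modEq_iff_dvd' (Nat.pow_le_pow_right (by norm_num) hj)).1 hmod.symm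

/-- Conjugates in `A` whose product is again a conjugate, counted from any conjugate. -/
theorem T_const {u : G} (hu : u ∈ X.Ω) :
    {v | v ∈ X.Ω ∧ u * v ∈ X.Ω}.ncard = {v | v ∈ X.Ω ∧ X.d * v ∈ X.Ω}.ncard := by
  obtain ⟨n, hn, hnu⟩ := X.trans hu.1 hu.2
  refine Eq.trans (congrArg Set.ncard (Set.ext fun v => ?_))
    (Set.ncard_image_of_injective _ (MulAut.conj n).injective)
  have hmul : ∀ w, n * (X.d * w) * n⁻¹ = u * (n * w * n⁻¹) := fun w => by rw [← hnu]; group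
  constructor
  · rintro ⟨hv, huv⟩
    refine ⟨n⁻¹ * v * n, ⟨?_, ?_⟩, ?_⟩
    · rw [← X.conj_Ω hn]
      simpa [mul_assoc] using hv
    · rw [← X.conj_Ω hn, hmul]
      simpa [mul_assoc] using huv
    · simp [mul_assoc]
  · rintro ⟨w, ⟨hw, hdw⟩, rfl⟩
    refine ⟨(X.conj_Ω hn w).2 hw, ?_⟩
    show u * (n * w * n⁻¹) ∈ X.Ω
    rw [← hmul]
    exact (X.conj_Ω hn _).2 hdw

/-- The conjugates `v` with `d * v` conjugate lie over classes with both lifts conjugate. -/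
theorem T_base : {v | v ∈ X.Ω ∧ X.d * v ∈ X.Ω} =
    Subtype.val '' {c : ↥C | ∃ i, (∀ c' : ↥C, X.f c' ∈ X.D.O i → X.P c') ∧ X.f c ∈ X.D.O i} := by
  ext v
  constructor
  · rintro ⟨⟨hvA, hv⟩, hdv⟩
    obtain ⟨hvC, hE⟩ := X.mem_A.1 hvA
    set c : ↥C := ⟨v, hvC⟩ with hc
    have hP2 : X.P (c * X.dd) := by
      have he : ((c * X.dd : ↥C) : G) = X.d * v := (X.mem v).1 hvC
      show IsConj X.d _
      rw [he]
      exact hdv.2
    have h1 : X.f c ≠ 1 := by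
      intro h
      rcases (X.ker _).1 h with h2 | h2
      · exact X.not_P_one (h2 ▸ (hv : X.P c))
      · rw [show c = X.dd from Subtype.ext h2, X.dd_sq] at hP2
        exact X.not_P_one hP2
    obtain ⟨i, hi⟩ := X.D.O_cover _ hE h1
    refine ⟨c, ⟨i, ?_, hi⟩, rfl⟩
    rcases X.trichotomy i with h | h | h
    · exact h
    · exact absurd hv ((h c hi).1 hP2)
    · exact absurd hv (h c hi)
  · rintro ⟨c, ⟨i, hall, hc⟩, rfl⟩
    refine ⟨X.coe_mem_Ω.2 ⟨(X.D.O_sub i _ hc).1, hall c hc⟩, ?_⟩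
    rw [show X.d * (c : G) = ((c * X.dd : ↥C) : G) from ((X.mem _).1 c.2).symm]
    have hc' : X.f (c * X.dd) ∈ X.D.O i := by rwa [map_mul, X.f_dd, mul_one]
    exact X.coe_mem_Ω.2 ⟨(X.D.O_sub i _ hc').1, hall _ hc'⟩

end Cover

end Cfsg.Agent.ThreeTransp.U62Cover
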