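import Cfsg.Agent.Lib.ThreeTransp.U62Cover.Count

/-!
The preimage of the large elementary abelian subgroup contains exactly 22 conjugates of the central
involution: all other orbit lengths are excluded by primes, by translations, or because the cover
would split.
-/

set_option autoImplicit false
set_option linter.unusedSectionVars false
set_option linter.style.haveILetI false

namespace Cfsg.Agent.ThreeTransp.U62Cover

open scoped Pointwise

variable {G Q : Type*} [Group G] [Finite G] [Group Q] {C : Subgroup G}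

namespace Cover

variable (X : Cover C Q)

theorem Ω_sub : X.Ω ⊆ (X.A : Set G) := fun _ h => h.1

theorem one_notMem_Ω : (1 : G) ∉ X.Ω := by
  rintro ⟨-, h⟩
  obtain ⟨g, hg⟩ := isConj_iff.1 h
  rw [mul_inv_eq_one] at hg
  exact X.d_ne (mul_left_cancel (hg.trans (mul_one g).symm))

theorem self_mul {u : G} (hu : u ∈ X.A) (v : G) : u * (u * v) = v := by
  rw [← mul_assoc, X.sq_A hu, one_mul]

theorem sub_ncard : ((X.A : Set G) \ X.Ω).ncard = 2 ^ 10 - X.Ω.ncard := by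
  rw [Set.ncard_sdiff X.Ω_sub, ← Nat.card_coe_set_eq]
  exact congrArg (fun k => k - X.Ω.ncard) X.card_A

/-- The case of 561 conjugates. -/
theorem ne_561 (hT : ∀ u ∈ X.Ω, {v | v ∈ X.Ω ∧ u * v ∈ X.Ω}.ncard = 560) :
    X.Ω.ncard ≠ 561 := by
  intro hn
  have hcl : ∀ u ∈ X.Ω, ∀ v ∈ X.Ω, u ≠ v → u * v ∈ X.Ω := by
    intro u hu v hv hne
    have hsub : {w | w ∈ X.Ω ∧ u * w ∈ X.Ω} ⊆ X.Ω \ {u} := by
      rintro w ⟨hw, huw⟩
      refine ⟨hw, fun e => ?_⟩
      rw [Set.mem_singleton_iff] at e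
      subst e
      exact X.one_notMem_Ω (X.sq_A hw.1 ▸ huw)
    have heq := Set.eq_of_subset_of_ncard_le hsub (by
      rw [Set.ncard_sdiff_singleton_of_mem hu, hn, hT u hu])
    exact ((Set.ext_iff.1 heq v).2 ⟨hv, fun e => hne (Set.mem_singleton_iff.1 e).symm⟩).2
  let H : Subgroup G :=
    { carrier := X.Ω ∪ {1}
      one_mem' := Or.inr rfl
      mul_mem' := by
        rintro a b (ha | ha) (hb | hb)
        · by_cases h : a = b
          · subst h
            exact Or.inr (X.sq_A ha.1)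
          · exact Or.inl (hcl a ha b hb h)
        · rw [Set.mem_singleton_iff.1 hb, mul_one]
          exact Or.inl ha
        · rw [Set.mem_singleton_iff.1 ha, one_mul]
          exact Or.inl hb
        · exact Or.inr (by rw [Set.mem_singleton_iff.1 ha, Set.mem_singleton_iff.1 hb, mul_one]; rfl)
      inv_mem' := by
        rintro a (ha | ha)
        · rw [inv_eq_of_mul_eq_one_right (X.sq_A ha.1)]
          exact Or.inl ha
        · rw [Set.mem_singleton_iff.1 ha, inv_one]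
          exact Or.inr rfl }
  have hc : Nat.card ↥H = 562 := by
    rw [show (↥H) = ↥(X.Ω ∪ {1} : Set G) from rfl, Nat.card_coe_set_eq,
      Set.ncard_union_eq (Set.disjoint_singleton_right.2 X.one_notMem_Ω), hn, Set.ncard_singleton]
  have hle : H ≤ X.A := by
    rintro a (ha | ha)
    · exact ha.1
    · rw [Set.mem_singleton_iff.1 ha]
      exact one_mem _
  have := Subgroup.card_dvd_of_le hle
  rw [hc, X.card_A] at this
  norm_num at this

/-- The case of 792 conjugates. -/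
theorem ne_792 (hT : ∀ u ∈ X.Ω, {v | v ∈ X.Ω ∧ u * v ∈ X.Ω}.ncard = 560) :
    X.Ω.ncard ≠ 792 := by
  intro hn
  have hsh : ∀ r ∈ (X.A : Set G) \ (X.Ω ∪ {1}), ∀ u ∈ X.Ω, u * r ∈ X.Ω := by
    intro r hr u hu
    set T := {v | v ∈ X.Ω ∧ u * v ∈ X.Ω} with hTd
    have hTs : T ⊆ X.Ω \ {u} := by
      rintro w ⟨hw, huw⟩
      refine ⟨hw, fun e => ?_⟩
      rw [Set.mem_singleton_iff] at e
      subst e
      exact X.one_notMem_Ω (X.sq_A hw.1 ▸ huw)
    have hS : ((X.Ω \ {u}) \ T).ncard = 231 := by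
      rw [Set.ncard_sdiff hTs, Set.ncard_sdiff_singleton_of_mem hu, hn, hTd, hT u hu]
    have himg : (fun v => u * v) '' ((X.Ω \ {u}) \ T) ⊆ (X.A : Set G) \ (X.Ω ∪ {1}) := by
      rintro _ ⟨v, ⟨⟨hv, hvu⟩, hvT⟩, rfl⟩
      refine ⟨mul_mem hu.1 hv.1, ?_⟩
      rintro (h | h)
      · exact hvT ⟨hv, h⟩
      · refine hvu (Set.mem_singleton_iff.2 ?_)
        calc v = u * (u * v) := (X.self_mul hu.1 v).symm
          _ = u := by rw [show u * v = 1 from Set.mem_singleton_iff.1 h, mul_one]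
    have hR : ((X.A : Set G) \ (X.Ω ∪ {1})).ncard = 231 := by
      rw [← Set.sdiff_sdiff, Set.ncard_sdiff_singleton_of_mem
        (show (1 : G) ∈ (X.A : Set G) \ X.Ω from ⟨one_mem X.A, X.one_notMem_Ω⟩),
        X.sub_ncard, hn]
      norm_num
    have heq := Set.eq_of_subset_of_ncard_le himg (by
      rw [Set.ncard_image_of_injective _ (mul_right_injective u), hS, hR])
    obtain ⟨v, ⟨⟨hv, -⟩, -⟩, rfl⟩ := (Set.ext_iff.1 heq r).2 hr
    show u * (u * v) ∈ X.Ω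
    rwa [X.self_mul hu.1]
  let K : Subgroup G :=
    { carrier := {a | a ∈ X.A ∧ ∀ u ∈ X.Ω, u * a ∈ X.Ω}
      one_mem' := ⟨one_mem _, fun u hu => by rwa [mul_one]⟩
      mul_mem' := fun ha hb => ⟨mul_mem ha.1 hb.1, fun u hu => by
        rw [← mul_assoc]
        exact hb.2 _ (ha.2 u hu)⟩
      inv_mem' := fun {a} ha => by
        rw [inv_eq_of_mul_eq_one_right (X.sq_A ha.1)]
        exact ha }
  have hKA : K ≤ X.A := fun _ h => h.1
  obtain ⟨k, -, hk⟩ := (Nat.dvd_prime_pow Nat.prime_two).1 (X.card_A ▸ Subgroup.card_dvd_of_le hKA)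
  have hK : 232 ≤ Nat.card ↥K := by
    have hsub : (X.A : Set G) \ X.Ω ⊆ (K : Set G) := by
      intro a ha
      by_cases h1 : a = 1
      · subst h1
        exact one_mem K
      · exact ⟨ha.1, hsh a ⟨ha.1, fun h => h.elim ha.2 h1⟩⟩
    refine le_trans (le_of_eq ?_) ((Set.ncard_le_ncard hsub).trans_eq (Nat.card_coe_set_eq _).symm)
    rw [X.sub_ncard, hn]
    norm_num
  haveI : Finite ↥X.Ω := Subtype.finite
  letI : MulAction ↥K ↥X.Ω :=
    { smul := fun a u => ⟨(a : G) * u, by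
        rw [X.comm_A a.2.1 u.2.1]
        exact a.2.2 _ u.2⟩
      one_smul := fun u => Subtype.ext (one_mul _)
      mul_smul := fun a b u => Subtype.ext (mul_assoc _ _ _) }
  have hstab : ∀ u : ↥X.Ω, MulAction.stabilizer ↥K u = ⊥ := fun u =>
    (Subgroup.eq_bot_iff_forall _).2 fun a ha =>
      Subtype.ext (mul_eq_right.1 (congrArg Subtype.val ha : (a : G) * u = u))
  have hdvd : Nat.card ↥K ∣ X.Ω.ncard := by
    have hsum := Nat.card_congr (MulAction.selfEquivSigmaOrbits ↥K ↥X.Ω)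
    rw [Nat.card_coe_set_eq] at hsum
    classical
    haveI : Fintype (Quotient (MulAction.orbitRel ↥K ↥X.Ω)) := Fintype.ofFinite _
    rw [hsum, Nat.card_sigma]
    refine Finset.dvd_sum fun o _ => ?_
    rw [Nat.card_congr (MulAction.orbitEquivQuotientStabilizer ↥K o.out), hstab]
    exact dvd_of_eq (Nat.card_congr (QuotientGroup.quotientBot.toEquiv)).symm
  rw [hn, hk] at hdvd
  rw [hk] at hK
  have h8 : 8 ≤ k := by
    by_contra h
    have : 2 ^ k ≤ 2 ^ 7 := Nat.pow_le_pow_right (by norm_num) (by omega)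
    norm_num at this
    omega
  have := (pow_dvd_pow 2 h8).trans hdvd
  norm_num at this

/-- Exactly half of `A` cannot consist of conjugates when there are no such sums. -/
theorem ne_512 (hperf : commutator ↥C = ⊤)
    (hT : ∀ u ∈ X.Ω, ∀ v ∈ X.Ω, u * v ∉ X.Ω) : X.Ω.ncard ≠ 512 := by
  classical
  intro hn
  haveI : Finite Q := Finite.of_surjective X.f X.surj
  have hdΩ : X.d ∈ X.Ω := ⟨X.d_mem_A, IsConj.refl _⟩
  have himg : (fun v => X.d * v) '' X.Ω = (X.A : Set G) \ X.Ω := by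
    refine Set.eq_of_subset_of_ncard_le ?_ ?_
    · rintro _ ⟨v, hv, rfl⟩
      exact ⟨mul_mem X.d_mem_A hv.1, hT _ hdΩ _ hv⟩
    · rw [Set.ncard_image_of_injective _ (mul_right_injective _), X.sub_ncard, hn]
      norm_num
  have hmulA : ∀ a ∈ (X.A : Set G) \ X.Ω, ∀ b ∈ (X.A : Set G) \ X.Ω, a * b ∉ X.Ω := by
    intro a ha b hb
    rw [← himg] at ha hb
    obtain ⟨v, hv, rfl⟩ := ha
    obtain ⟨w, hw, rfl⟩ := hb
    show X.d * v * (X.d * w) ∉ X.Ω
    rw [X.comm_A X.d_mem_A hv.1, show v * X.d * (X.d * w) = v * (X.d * (X.d * w)) by group,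
      X.self_mul X.d_mem_A]
    exact hT v hv w hw
  let H₀ : Subgroup ↥C :=
    { carrier := {c | X.f c ∈ X.D.E ∧ ¬ X.P c}
      one_mem' := ⟨by rw [map_one]; exact one_mem _, X.not_P_one⟩
      mul_mem' := fun {a b} ha hb => by
        refine ⟨by rw [map_mul]; exact mul_mem ha.1 hb.1, fun h => ?_⟩
        refine hmulA a ⟨X.mem_A.2 ⟨a.2, ha.1⟩, fun h' => ha.2 h'.2⟩ b
          ⟨X.mem_A.2 ⟨b.2, hb.1⟩, fun h' => hb.2 h'.2⟩ ?_
        exact X.coe_mem_Ω.2 ⟨by rw [map_mul]; exact mul_mem ha.1 hb.1, h⟩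
      inv_mem' := fun {a} ha => by
        rw [inv_eq_of_mul_eq_one_right (X.sq_one (X.D.E_sq _ ha.1))]
        exact ha }
  have hmem : ∀ c, c ∈ H₀ ↔ X.f c ∈ X.D.E ∧ ¬ X.P c := fun _ => Iff.rfl
  have hdd0 : X.dd ∉ H₀ := fun h => h.2 X.P_dd
  have hex : ∀ r ∈ X.D.E, ∃ c ∈ H₀, X.f c = r := by
    intro r hr
    obtain ⟨c, rfl⟩ := X.surj r
    by_cases hP : X.P c
    · refine ⟨X.dd * c, ⟨by rwa [map_mul, X.f_dd, one_mul], fun h => ?_⟩,
        by rw [map_mul, X.f_dd, one_mul]⟩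
      exact hT X.d hdΩ c (X.coe_mem_Ω.2 ⟨hr, hP⟩)
        ((X.coe_mem_Ω (c := X.dd * c)).2 ⟨by rwa [map_mul, X.f_dd, one_mul], h⟩)
    · exact ⟨c, ⟨hr, hP⟩, rfl⟩
  have hinjOn : ∀ K : Subgroup ↥C, X.dd ∉ K → ∀ a ∈ K, X.f a = 1 → a = 1 := by
    intro K hK a ha h
    rcases (X.ker a).1 h with h1 | h1
    · exact h1
    · exact absurd ((show a = X.dd from Subtype.ext h1) ▸ ha) hK
  have hbij : ∀ K : Subgroup ↥C, X.dd ∉ K → Nat.card ↥K = Nat.card ↥(K.map X.f) := by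
    intro K hK
    refine Nat.card_eq_of_bijective (X.f.subgroupMap K)
      ⟨(injective_iff_map_eq_one _).2 fun a ha => Subtype.ext (hinjOn K hK a a.2
        (congrArg Subtype.val ha)), X.f.subgroupMap_surjective K⟩
  -- the subgroups over the root parts
  have hroot : ∀ B : Subgroup Q, (∃ g : Q, ∀ x ∈ B, g * x * g⁻¹ ∈ X.D.E) →
      ∃ K : Subgroup ↥C, Nat.card ↥K = Nat.card ↥B ∧ B ≤ K.map X.f ∧
        ∀ c, c ∈ K ↔ X.f c ∈ B ∧ ¬ X.P c := by
    intro B hB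
    obtain ⟨g, hg⟩ := hB
    obtain ⟨t, rfl⟩ := X.surj g
    set K := H₀.comap (MulAut.conj t).toMonoidHom ⊓ B.comap X.f with hK
    have hch : ∀ c, c ∈ K ↔ X.f c ∈ B ∧ ¬ X.P c := by
      intro c
      show (t * c * t⁻¹ ∈ H₀ ∧ X.f c ∈ B) ↔ _
      rw [hmem, X.P_conj]
      refine ⟨fun h => ⟨h.2, h.1.2⟩, fun h => ⟨⟨?_, h.2⟩, h.1⟩⟩
      rw [map_mul, map_mul, map_inv]
      exact hg _ h.1
    have hddK : X.dd ∉ K := fun h => ((hch _).1 h).2 X.P_dd
    have heq : K.map X.f = B := by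
      refine le_antisymm (Subgroup.map_le_iff_le_comap.2 inf_le_right) fun r hr => ?_
      obtain ⟨h, hh, hfh⟩ := hex _ (hg r hr)
      have hf : X.f (t⁻¹ * h * t) = r := by rw [map_mul, map_mul, hfh, map_inv]; group
      refine ⟨t⁻¹ * h * t, (hch _).2 ⟨hf.symm ▸ hr, ?_⟩, hf⟩
      rw [← X.P_conj t, show t * (t⁻¹ * h * t) * t⁻¹ = h by group]
      exact hh.2
    exact ⟨K, (hbij K hddK).trans (by rw [heq]), heq.ge, hch⟩
  obtain ⟨K₁, hK₁c, hK₁i, hK₁⟩ := hroot _ X.D.B₁_conj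
  obtain ⟨K₂, hK₂c, hK₂i, hK₂⟩ := hroot _ X.D.B₂_conj
  have hnorm : ∀ (K L : Subgroup ↥C), (∀ b ∈ K, ∀ x ∈ L, b * x * b⁻¹ ∈ L) →
      K ≤ Subgroup.normalizer (L : Set ↥C) := by
    intro K L h b hb
    refine Subgroup.mem_normalizer_iff.2 fun x => ⟨h b hb x, fun hx => ?_⟩
    simpa [mul_assoc] using h b⁻¹ (inv_mem hb) _ hx
  have hn2 : ∀ b ∈ K₂, ∀ x ∈ H₀, b * x * b⁻¹ ∈ H₀ := fun b hb x hx => by
    refine ⟨?_, by rw [X.P_conj]; exact hx.2⟩
    rw [map_mul, map_mul, map_inv]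
    exact X.D.B₂_norm _ ((hK₂ b).1 hb).1 _ hx.1
  have hn10 : ∀ b ∈ K₁, ∀ x ∈ H₀, b * x * b⁻¹ ∈ H₀ := fun b hb x hx => by
    refine ⟨?_, by rw [X.P_conj]; exact hx.2⟩
    rw [map_mul, map_mul, map_inv]
    exact X.D.B₁_norm _ ((hK₁ b).1 hb).1 _ hx.1
  have hn12 : ∀ b ∈ K₁, ∀ x ∈ K₂, b * x * b⁻¹ ∈ K₂ := fun b hb x hx => by
    refine (hK₂ _).2 ⟨?_, by rw [X.P_conj]; exact ((hK₂ x).1 hx).2⟩
    rw [map_mul, map_mul, map_inv]
    exact X.D.B_norm _ ((hK₁ b).1 hb).1 _ ((hK₂ x).1 hx).1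
  have hs1 := Subgroup.coe_mul_of_right_le_normalizer_left H₀ K₂ (hnorm _ _ hn2)
  have hn1' : ∀ b ∈ K₁, ∀ x ∈ H₀ ⊔ K₂, b * x * b⁻¹ ∈ H₀ ⊔ K₂ := by
    intro b hb x hx
    rw [← SetLike.mem_coe, hs1] at hx
    obtain ⟨p, hp, q, hq, rfl⟩ := hx
    rw [show b * (p * q) * b⁻¹ = b * p * b⁻¹ * (b * q * b⁻¹) by group]
    exact mul_mem (Subgroup.mem_sup_left (hn10 b hb p hp))
      (Subgroup.mem_sup_right (hn12 b hb q hq))
  have hs2 := Subgroup.coe_mul_of_right_le_normalizer_left (H₀ ⊔ K₂) K₁ (hnorm _ _ hn1')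
  set L := H₀ ⊔ K₂ ⊔ K₁ with hL
  have hH₀c : Nat.card ↥H₀ = 512 := by
    rw [hbij H₀ hdd0, show H₀.map X.f = X.D.E from le_antisymm
      (Subgroup.map_le_iff_le_comap.2 fun c hc => hc.1) (fun r hr => hex r hr), X.D.E_card]
  have hLc : Nat.card ↥L ≤ 2 ^ 15 := by
    calc Nat.card ↥L = Nat.card ((((H₀ : Set ↥C) * (K₂ : Set ↥C)) * (K₁ : Set ↥C) : Set ↥C)) := by
          rw [← hs1, ← hs2]; rfl
      _ ≤ Nat.card ((H₀ : Set ↥C) * (K₂ : Set ↥C) : Set ↥C) * Nat.card ↥K₁ := Set.natCard_mul_le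
      _ ≤ Nat.card ↥H₀ * Nat.card ↥K₂ * Nat.card ↥K₁ :=
          Nat.mul_le_mul_right _ Set.natCard_mul_le
      _ = 512 * (Nat.card ↥X.D.B₁ * Nat.card ↥X.D.B₂) := by rw [hH₀c, hK₁c, hK₂c]; ring
      _ = 2 ^ 15 := by rw [X.D.B_card]; norm_num
  have hSL : X.D.S ≤ L.map X.f := by
    refine X.D.B_gen.trans ?_
    rw [hL, Subgroup.map_sup, Subgroup.map_sup]
    exact sup_le_sup (sup_le_sup (fun r hr => hex r hr) hK₂i) hK₁i
  have hLmap : Nat.card ↥(L.map X.f) ∣ Nat.card ↥L := Subgroup.card_map_dvd L X.f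
  have hge : 2 ^ 15 ≤ Nat.card ↥(L.map X.f) := X.D.S_card ▸ Subgroup.card_le_of_le hSL
  have heqS : X.D.S = L.map X.f := Subgroup.eq_of_le_of_card_ge hSL (by
    rw [X.D.S_card]
    exact (Nat.le_of_dvd Nat.card_pos hLmap).trans hLc)
  have hLS : L ≤ X.S₀ := by
    rw [S₀, heqS]
    exact Subgroup.le_comap_map _ _
  have hLeq : Nat.card ↥L = 2 ^ 15 :=
    le_antisymm hLc (hge.trans (Nat.le_of_dvd Nat.card_pos hLmap))
  have hddL : X.dd ∉ L := by
    intro h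
    set ψ := X.f.subgroupMap L with hψ
    have hk : ψ ⟨X.dd, h⟩ = 1 := Subtype.ext X.f_dd
    have hne : ψ.ker ≠ ⊥ := fun e => by
      have h1 : (⟨X.dd, h⟩ : ↥L) ∈ ψ.ker := hk
      rw [e, Subgroup.mem_bot] at h1
      exact X.d_ne (congrArg (fun z : ↥L => ((z : ↥C) : G)) h1)
    have h2 := ψ.ker.card_mul_index
    rw [Subgroup.index_ker, MonoidHom.range_eq_top.2 (X.f.subgroupMap_surjective L),
      Subgroup.card_top, hLeq] at h2
    have h3 : 1 < Nat.card ↥ψ.ker := by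
      rwa [Subgroup.one_lt_card_iff_ne_bot]
    nlinarith
  -- transfer
  set L' := L.subgroupOf X.S₀ with hL'
  have hidx : L'.index = 2 := by
    have h := L'.card_mul_index
    have hS : Nat.card ↥X.S₀ = 2 ^ 16 := by
      rw [S₀, X.card_comap, X.D.S_card]
      norm_num
    rw [Nat.card_congr (Subgroup.subgroupOfEquivOfLe hLS).toEquiv, hLeq, hS] at h
    omega
  let φ : ↥X.S₀ →* Multiplicative (ZMod 2) :=
    { toFun := fun x => if x ∈ L' then 1 else Multiplicative.ofAdd (1 : ZMod 2)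
      map_one' := if_pos (one_mem _)
      map_mul' := fun a b => by
        by_cases ha : a ∈ L' <;> by_cases hb : b ∈ L'
        · rw [if_pos ha, if_pos hb, if_pos (mul_mem ha hb), one_mul]
        · rw [if_pos ha, if_neg hb, if_neg (fun h => hb ((Subgroup.mul_mem_iff_of_index_two hidx).1 h |>.1 ha)),
            one_mul]
        · rw [if_neg ha, if_pos hb, if_neg (fun h => ha ((Subgroup.mul_mem_iff_of_index_two hidx).1 h |>.2 hb)),
            mul_one]
        · rw [if_neg ha, if_neg hb, if_pos ((Subgroup.mul_mem_iff_of_index_two hidx).2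
            (iff_of_false ha hb))]
          decide }
  haveI : X.S₀.FiniteIndex := Subgroup.finiteIndex_of_finite_quotient
  have htriv : ∀ c : ↥C, φ.transfer c = 1 := fun c =>
    Abelianization.commutator_subset_ker φ.transfer (hperf ▸ Subgroup.mem_top c)
  have hcen : ∀ g₀ : ↥C, ∀ k : ℕ, g₀⁻¹ * X.dd ^ k * g₀ = X.dd ^ k := fun g₀ k => by
    rw [mul_assoc, ← (Commute.pow_right (show Commute g₀ X.dd from X.dd_central g₀) k).eq,
      inv_mul_cancel_left]
  have htr := MonoidHom.transfer_eq_pow φ X.dd fun k g₀ _ => hcen g₀ k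
  rw [htriv] at htr
  obtain ⟨j, hj⟩ : Odd X.S₀.index :=
    Nat.not_even_iff_odd.1 fun h => X.S₀_odd (even_iff_two_dvd.1 h)
  have hpow : X.dd ^ X.S₀.index = X.dd := by
    rw [hj, pow_succ, pow_mul, pow_two, X.dd_sq, one_pow, one_mul]
  have hout : (⟨X.dd ^ X.S₀.index, MonoidHom.transfer_eq_pow_aux X.dd fun k g₀ _ => hcen g₀ k⟩ :
      ↥X.S₀) ∉ L' := by
    rw [Subgroup.mem_subgroupOf]
    show X.dd ^ X.S₀.index ∉ L
    rw [hpow]
    exact hddL
  change 1 = φ ⟨_, _⟩ at htr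
  rw [show φ ⟨X.dd ^ X.S₀.index, _⟩ = Multiplicative.ofAdd (1 : ZMod 2) from if_neg hout] at htr
  exact absurd htr (by decide)

/-- Exactly 22 conjugates of the involution lie in `A`. -/
theorem ncard_eq (hperf : commutator ↥C = ⊤)
    (hnwc : ∃ g : G, g * X.d * g⁻¹ ∈ C ∧ g * X.d * g⁻¹ ≠ X.d) : X.Ω.ncard = 22 := by
  have hn := X.Ω_ncard
  have h1 := X.one_lt hnwc
  have c0 : classSize 0 = 21 := rfl
  have c1 : classSize 1 = 210 := rfl
  have c2 : classSize 2 = 280 := rfl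
  have hno : ∀ i : Fin 3, i ≠ 2 → ((X.M i).ncard = classSize i ∨ (X.M i).ncard = 0) ∧
      ¬ ∀ c : ↥C, X.f c ∈ X.D.O i → X.P c := by
    intro i hi
    refine ⟨?_, X.not_all hi⟩
    rcases X.mult i with ⟨h, -⟩ | ⟨-, h⟩ | ⟨-, h⟩
    · exact absurd h (X.not_all hi)
    · exact Or.inl h
    · exact Or.inr h
  have hbad : ∀ p : ℕ, p.Prime → p ∣ X.Ω.ncard → p ∉ ([211, 29, 281, 151, 491, 97, 257] : List ℕ) := by
    intro p hp hdvd hmem
    obtain ⟨j, hj, hd⟩ := X.prime_bound hp hdvd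
    have key : ∀ q ∈ ([211, 29, 281, 151, 491, 97, 257] : List ℕ), ∀ j : Fin 10,
        ¬ q ∣ 2 ^ 10 - 2 ^ (j : ℕ) := by decide
    exact key p hmem ⟨j, hj⟩ hd
  have bad : ∀ p : ℕ, p.Prime → p ∈ ([211, 29, 281, 151, 491, 97, 257] : List ℕ) →
      ¬ p ∣ X.Ω.ncard := fun p hp hmem hdvd => hbad p hp hdvd hmem
  have b1 := bad 211 (by norm_num) (by simp)
  have b2 := bad 29 (by norm_num) (by simp)
  have b3 := bad 281 (by norm_num) (by simp)
  have b4 := bad 151 (by norm_num) (by simp)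
  have b5 := bad 491 (by norm_num) (by simp)
  have b6 := bad 97 (by norm_num) (by simp)
  have b7 := bad 257 (by norm_num) (by simp)
  obtain ⟨h0, n0⟩ := hno 0 (by decide)
  obtain ⟨h1', n1⟩ := hno 1 (by decide)
  rw [c0] at h0
  rw [c1] at h1'
  by_cases h2 : ∀ c : ↥C, X.f c ∈ X.D.O 2 → X.P c
  · -- both lifts over the last class
    have hm : (X.M 2).ncard = 560 := by
      obtain ⟨r, hr⟩ : (X.D.O 2).Nonempty :=
        Set.nonempty_of_ncard_ne_zero (by rw [X.D.O_card, c2]; norm_num)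
      obtain ⟨c, rfl⟩ := X.surj r
      rcases X.mult 2 with ⟨-, h⟩ | ⟨h, -⟩ | ⟨h, -⟩
      · rw [h, c2]
      · exact absurd (h2 c hr) ((h c hr).1 (h2 _ (by rwa [map_mul, X.f_dd, mul_one])))
      · exact absurd (h2 c hr) (h c hr)
    have hbase : {v | v ∈ X.Ω ∧ X.d * v ∈ X.Ω}.ncard = 560 := by
      rw [X.T_base, Set.ncard_image_of_injective _ Subtype.val_injective, ← hm]
      refine congrArg Set.ncard (Set.ext fun c => ⟨?_, fun hc => ⟨2, h2, hc.1⟩⟩)
      rintro ⟨i, hall, hc⟩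
      fin_cases i
      exacts [absurd hall n0, absurd hall n1, ⟨hc, hall c hc⟩]
    have hT := fun u (hu : u ∈ X.Ω) => (X.T_const hu).trans hbase
    have e1 := X.ne_561 hT
    have e2 := X.ne_792 hT
    rcases h0 with h0 | h0 <;> rcases h1' with h1' | h1' <;> rw [h0, h1', hm] at hn <;>
      omega
  · have hm : (X.M 2).ncard = 280 ∨ (X.M 2).ncard = 0 := by
      rcases X.mult 2 with ⟨h, -⟩ | ⟨-, h⟩ | ⟨-, h⟩
      · exact absurd h h2
      · exact Or.inl (h.trans c2)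
      · exact Or.inr h
    have hbase : {v | v ∈ X.Ω ∧ X.d * v ∈ X.Ω} = ∅ := by
      rw [X.T_base, Set.image_eq_empty]
      refine Set.eq_empty_iff_forall_notMem.2 ?_
      rintro c ⟨i, hall, -⟩
      fin_cases i
      exacts [n0 hall, n1 hall, h2 hall]
    have hT : ∀ u ∈ X.Ω, ∀ v ∈ X.Ω, u * v ∉ X.Ω := by
      intro u hu v hv huv
      have h := X.T_const hu
      rw [hbase, Set.ncard_empty, Set.ncard_eq_zero] at h
      exact Set.notMem_empty v (h ▸ ⟨hv, huv⟩)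
    have e3 := X.ne_512 hperf hT
    rcases h0 with h0 | h0 <;> rcases h1' with h1' | h1' <;> rcases hm with hm | hm <;>
      rw [h0, h1', hm] at hn <;> omega

end Cover

end Cfsg.Agent.ThreeTransp.U62Cover
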