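import Cfsg.Agent.Lib.ThreeTransp.U62Cover.Data
import Cfsg.Agent.Lib.ThreeTransp.U62Cover.Coords
import Cfsg.Agent.Lib.Classical.UnitaryFrames

/-!
The Sylow 2-subgroup of `PSU(6, 2)` as an extension of an elementary abelian group of order 512 by a
unitriangular group: the facts used in a double cover.
-/

set_option autoImplicit false
set_option linter.unusedSectionVars false
set_option linter.style.haveILetI false
set_option synthInstance.maxSize 4096
set_option synthInstance.maxHeartbeats 400000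

namespace Cfsg.Agent.ThreeTransp.U62Cover.Model

open Matrix Cfsg.Agent.Classical.Unitary
open Cfsg.Agent.Forms.SU32 (E4 o l w v mE V3 M3 mulM tr cj)

variable {F : Type*} [Field F] [Fintype F] (X : Setup F)

namespace Setup

local notation "G6" => Cfsg.SU 6 F 2

theorem herm_zero : herm 0 = z3 := by decide

theorem P9_add_eq_zero {p q : P9} (h : p + q = 0) : p = q := by
  have := congrArg (· + q) h
  simpa [add_assoc, add_self_P9] using this

theorem mulT_zero (t : U3) : mulT (o, o, o) t = t ∧ mulT t (o, o, o) = t := by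
  have h : ∀ s : U3, mulT (o, o, o) s = s ∧ mulT s (o, o, o) = s := by decide +kernel
  exact h t

theorem exists_inv (t : U3) : ∃ t' : U3, mulT t t' = (o, o, o) := by
  have h : ∀ s : U3, mulT s (s.1, s.2.1 + mE s.1 s.2.2, s.2.2) = (o, o, o) := by decide +kernel
  exact ⟨_, h t⟩

theorem L_inv (t : U3) : ∃ t' : U3, (X.L t)⁻¹ = X.L t' := by
  obtain ⟨t', h⟩ := exists_inv t
  exact ⟨t', inv_eq_of_mul_eq_one_right (by rw [X.L_mul, h, X.L_zero])⟩

/-- The root subgroup. -/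
noncomputable def E' : Subgroup G6 where
  carrier := Set.range X.U
  mul_mem' := by rintro _ _ ⟨p, rfl⟩ ⟨q, rfl⟩; exact ⟨p + q, (X.U_mul p q).symm⟩
  one_mem' := ⟨0, X.U_zero⟩
  inv_mem' := by rintro _ ⟨p, rfl⟩; exact ⟨p, (inv_eq_of_mul_eq_one_right (X.U_sq p)).symm⟩

theorem mem_E' {g : G6} : g ∈ X.E' ↔ ∃ p, X.U p = g := Iff.rfl

/-- The elements of the Sylow subgroup. -/
noncomputable def UL (x : P9 × U3) : G6 := X.U x.1 * X.L x.2

theorem UL_injective : Function.Injective X.UL := fun _ _ h =>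
  Prod.ext (X.UL_inj h).1 (X.UL_inj h).2

theorem UL_mul (p q : P9) (s t : U3) :
    ∃ q', herm q' = act (hM s) (herm q) ∧
      X.UL (p, s) * X.UL (q, t) = X.UL (p + q', mulT s t) := by
  obtain ⟨q', hq, e⟩ := X.L_conj s q
  refine ⟨q', hq, ?_⟩
  show X.U p * X.L s * (X.U q * X.L t) = X.U (p + q') * X.L (mulT s t)
  rw [← X.U_mul, ← X.L_mul, mul_assoc (X.U p), ← mul_assoc (X.L s), e]
  simp only [mul_assoc]

theorem UL_left (p : P9) : X.UL (p, (o, o, o)) = X.U p := by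
  show X.U p * X.L (o, o, o) = X.U p
  rw [X.L_zero, mul_one]

theorem UL_right (t : U3) : X.UL (0, t) = X.L t := by
  show X.U 0 * X.L t = X.L t
  rw [X.U_zero, one_mul]

theorem UL_one : X.UL (0, (o, o, o)) = 1 := by rw [X.UL_left, X.U_zero]

/-- The Sylow subgroup. -/
noncomputable def S' : Subgroup G6 where
  carrier := Set.range X.UL
  mul_mem' := by
    rintro _ _ ⟨⟨p, s⟩, rfl⟩ ⟨⟨q, t⟩, rfl⟩
    obtain ⟨q', -, e⟩ := X.UL_mul p q s t
    exact ⟨_, e.symm⟩
  one_mem' := ⟨_, X.UL_one⟩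
  inv_mem' := by
    rintro _ ⟨⟨p, t⟩, rfl⟩
    obtain ⟨t', ht⟩ := X.L_inv t
    obtain ⟨q, -, e⟩ := X.L_conj t' p
    refine ⟨(q, t'), ?_⟩
    show X.U q * X.L t' = (X.U p * X.L t)⁻¹
    rw [_root_.mul_inv_rev, ht, inv_eq_of_mul_eq_one_right (X.U_sq p), e]

theorem mem_S' {g : G6} : g ∈ X.S' ↔ ∃ x, X.UL x = g := Iff.rfl

theorem U_mem (p : P9) : X.U p ∈ X.S' := ⟨_, X.UL_left p⟩

theorem L_mem (t : U3) : X.L t ∈ X.S' := ⟨_, X.UL_right t⟩

theorem E'_le : X.E' ≤ X.S' := by rintro _ ⟨p, rfl⟩; exact X.U_mem p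

theorem card_E' : Nat.card X.E' = 512 := by
  rw [← SetLike.coe_sort_coe, show ((X.E' : Subgroup G6) : Set G6) = Set.range X.U from rfl,
    ← Nat.card_congr (Equiv.ofInjective X.U fun _ _ h => X.U_inj h)]
  simp [Nat.card_eq_fintype_card]

theorem card_S' : Nat.card X.S' = 2 ^ 15 := by
  rw [← SetLike.coe_sort_coe, show ((X.S' : Subgroup G6) : Set G6) = Set.range X.UL from rfl,
    ← Nat.card_congr (Equiv.ofInjective X.UL X.UL_injective)]
  simp [Nat.card_eq_fintype_card]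

/-- Elements normalising the root subgroup. -/
noncomputable def N : Subgroup G6 where
  carrier := {g | ∀ p, ∃ q, g * X.U p = X.U q * g}
  mul_mem' := by
    intro a b ha hb p
    obtain ⟨q, hq⟩ := hb p
    obtain ⟨r, hr⟩ := ha q
    exact ⟨r, by rw [mul_assoc, hq, ← mul_assoc, hr, mul_assoc]⟩
  one_mem' := fun p => ⟨p, by rw [one_mul, mul_one]⟩
  inv_mem' := by
    intro g hg p
    choose f hf using hg
    have hinj : Function.Injective f := fun a b h => X.U_inj (mul_left_cancel (a := g) (by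
      rw [hf, hf, h]))
    obtain ⟨q, hq⟩ := Finite.surjective_of_injective hinj p
    refine ⟨q, ?_⟩
    have h := hf q
    rw [hq] at h
    rw [eq_mul_inv_iff_mul_eq, mul_assoc, ← h, inv_mul_cancel_left]

theorem L_mem_N (t : U3) : X.L t ∈ X.N := fun p => (X.L_conj t p).imp fun _ h => h.2

theorem G_mem_N {i : ℕ} (h1 : 3 ≤ i) (h2 : i < 15) : X.G i ∈ X.N :=
  fun p => (X.G_conj h1 h2 p).imp fun _ h => h.2

theorem N_conj {g : G6} (hg : g ∈ X.N) {x : G6} (hx : x ∈ X.E') : g * x * g⁻¹ ∈ X.E' := by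
  obtain ⟨p, rfl⟩ := hx
  obtain ⟨q, hq⟩ := hg p
  exact ⟨q, by rw [hq, mul_inv_cancel_right]⟩

/-- Every Levi involution is conjugate to the base root element by a normalising element. -/
theorem exists_base {t : U3} (ht : mulT t t = (o, o, o)) (h1 : t ≠ (o, o, o)) :
    ∃ k ∈ X.N, k * X.L t * k⁻¹ = X.L t₀ := by
  obtain h | h := hcert_cover t ht
  · exact absurd h h1
  obtain ⟨e, he, rfl⟩ := List.mem_map.1 h
  obtain ⟨hc, hw⟩ := hcert_ok e he
  obtain ⟨k, hk, hke⟩ := X.exists_conjW e.2 (X.L e.1) (lB e.1) (X.cd_L e.1)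
  refine ⟨k, hk X.N.toSubmonoid fun i hi => X.G_mem_N (hw i hi).1 (hw i hi).2, X.cd_inj ?_⟩
  rw [hke, hc, X.cd_L]

include X in
theorem fix_card {t : U3} (ht : mulT t t = (o, o, o)) (h1 : t ≠ (o, o, o)) :
    (fixL t).card ≤ 64 := by
  obtain ⟨k, hk, hke⟩ := X.exists_base ht h1
  choose f hf using hk
  refine le_trans (Finset.card_le_card_of_injOn f ?_ ?_) fix_one
  · intro p hp
    simp only [fixL, Finset.coe_filter, Set.mem_setOf_eq, Finset.mem_univ, true_and] at hp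
    simp only [fixL, Finset.coe_filter, Set.mem_setOf_eq, Finset.mem_univ, true_and]
    obtain ⟨p', hp', e⟩ := X.L_conj t p
    rw [herm_inj (hp'.trans hp)] at e
    obtain ⟨q', hq', e'⟩ := X.L_conj t₀ (f p)
    have key : X.L t₀ * X.U (f p) = X.U (f p) * X.L t₀ := by
      have e1 : X.U (f p) = k * X.U p * k⁻¹ := by rw [hf p, mul_inv_cancel_right]
      have e2 : X.L t₀ = k * X.L t * k⁻¹ := hke.symm
      rw [e1, e2]
      calc k * X.L t * k⁻¹ * (k * X.U p * k⁻¹) = k * (X.L t * X.U p) * k⁻¹ := by group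
        _ = k * (X.U p * X.L t) * k⁻¹ := by rw [e]
        _ = _ := by group
    rw [e'] at key
    rw [← hq', X.U_inj (mul_right_cancel key)]
  · intro a _ b _ h
    exact X.U_inj (mul_left_cancel (a := k) (by rw [hf, hf, h]))

/-- The maximality of the root subgroup. -/
theorem max' (B : Subgroup G6) (hle : B ≤ X.S') (hsq : ∀ x ∈ B, x * x = 1)
    (hcard : 512 ≤ Nat.card B) : B = X.E' := by
  classical
  have hcomm : ∀ x ∈ B, ∀ y ∈ B, x * y = y * x := by
    intro x hx y hy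
    have h1 := inv_eq_of_mul_eq_one_right (hsq x hx)
    have h2 := inv_eq_of_mul_eq_one_right (hsq y hy)
    have h3 := inv_eq_of_mul_eq_one_right (hsq _ (mul_mem hx hy))
    rw [← h3, _root_.mul_inv_rev, h1, h2]
  obtain ⟨Bs, hmem⟩ : ∃ Bs : Finset (P9 × U3), ∀ x, x ∈ Bs ↔ X.UL x ∈ B :=
    ⟨(Set.toFinite {x | X.UL x ∈ B}).toFinset, fun x => Set.Finite.mem_toFinset _⟩
  have hBcard : Nat.card B = Bs.card := by
    rw [← Nat.card_eq_finsetCard]
    symm
    refine Nat.card_congr (Equiv.ofBijective (fun x : Bs => (⟨X.UL x.1, (hmem _).1 x.2⟩ : B)) ⟨?_, ?_⟩)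
    · intro a b h
      exact Subtype.ext (X.UL_injective (congrArg Subtype.val h))
    · intro y
      obtain ⟨x, hx⟩ := hle y.2
      exact ⟨⟨x, (hmem x).2 (by rw [hx]; exact y.2)⟩, Subtype.ext hx⟩
  obtain ⟨T, hT⟩ : ∃ T : Finset U3, T = Bs.image Prod.snd := ⟨_, rfl⟩
  obtain ⟨K, hK⟩ : ∃ K : Finset P9, ∀ p, p ∈ K ↔ X.U p ∈ B :=
    ⟨(Set.toFinite {p | X.U p ∈ B}).toFinset, fun x => Set.Finite.mem_toFinset _⟩
  have hTs : ∀ t ∈ T, ∃ q, X.UL (q, t) ∈ B := by
    intro t ht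
    obtain ⟨⟨q, t'⟩, hx, rfl⟩ := Finset.mem_image.1 (hT ▸ ht)
    exact ⟨q, (hmem _).1 hx⟩
  have hTmem : ∀ q t, X.UL (q, t) ∈ B → t ∈ T := fun q t h =>
    hT ▸ Finset.mem_image.2 ⟨(q, t), (hmem (q, t)).2 h, rfl⟩
  have hTsq : ∀ t ∈ T, mulT t t = (o, o, o) := by
    intro t ht
    obtain ⟨q, hq⟩ := hTs t ht
    obtain ⟨q', -, e⟩ := X.UL_mul q q t t
    rw [hsq _ hq, ← X.UL_one] at e
    exact (X.UL_inj e).2.symm
  have hTmul : ∀ s ∈ T, ∀ t ∈ T, mulT s t ∈ T ∧ mulT s t = mulT t s := by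
    intro s hs t ht
    obtain ⟨p, hp⟩ := hTs s hs
    obtain ⟨q, hq⟩ := hTs t ht
    obtain ⟨q', -, e⟩ := X.UL_mul p q s t
    obtain ⟨p', -, e'⟩ := X.UL_mul q p t s
    refine ⟨hTmem _ _ (e ▸ mul_mem hp hq), ?_⟩
    rw [hcomm _ hp _ hq, e'] at e
    exact (X.UL_inj e).2.symm
  have hfib : Bs.card ≤ K.card * T.card := by
    rw [hT]
    refine Finset.card_le_mul_card_image Bs _ fun t _ => ?_
    by_cases hne : (Bs.filter fun x => x.2 = t).Nonempty
    swap
    · rw [Finset.not_nonempty_iff_eq_empty] at hne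
      simp [hne]
    obtain ⟨⟨p₀, t'⟩, hf0⟩ := hne
    obtain ⟨h0, htt⟩ := Finset.mem_filter.1 hf0
    simp only at htt
    subst htt
    refine Finset.card_le_card_of_injOn (fun x => x.1 + p₀) ?_ ?_
    · rintro ⟨p, u⟩ hxf
      obtain ⟨hx, hut⟩ := Finset.mem_filter.1 (Finset.mem_coe.1 hxf)
      simp only at hut
      subst hut
      rw [Finset.mem_coe, hK]
      rw [← X.U_mul]
      have := mul_mem ((hmem _).1 hx) (inv_mem ((hmem _).1 h0))
      simpa [UL, inv_eq_of_mul_eq_one_right (X.U_sq p₀), mul_assoc] using this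
    · rintro ⟨p, t⟩ hx ⟨q, u⟩ hy h
      obtain ⟨-, rfl⟩ := Finset.mem_filter.1 hx
      obtain ⟨-, rfl⟩ := Finset.mem_filter.1 hy
      exact Prod.ext (add_right_cancel h) rfl
  have hfix : ∀ t ∈ T, K ⊆ fixL t := by
    intro t ht p hp
    rw [hK] at hp
    obtain ⟨q, hq⟩ := hTs t ht
    obtain ⟨p', hp', e⟩ := X.L_conj t p
    have h := hcomm _ hp _ hq
    simp only [UL] at h
    rw [mul_assoc (X.U q), e, ← mul_assoc, ← mul_assoc, X.U_mul, X.U_mul] at h
    have h2 := X.U_inj (mul_right_cancel h)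
    rw [add_comm p q] at h2
    rw [← add_left_cancel h2] at hp'
    simp only [fixL, Finset.mem_filter, Finset.mem_univ, true_and]
    exact hp'.symm
  by_cases hT1 : ∀ t ∈ T, t = (o, o, o)
  · refine Subgroup.eq_of_le_of_card_ge ?_ (by rw [X.card_E']; exact hcard)
    intro g hg
    obtain ⟨⟨p, t⟩, rfl⟩ := hle hg
    rw [hT1 t (hTmem p t hg), X.UL_left]
    exact ⟨p, rfl⟩
  push Not at hT1
  obtain ⟨t, ht, ht1⟩ := hT1
  exfalso
  have hK64 : K.card ≤ 64 := (Finset.card_le_card (hfix t ht)).trans (X.fix_card (hTsq t ht) ht1)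
  have hbound : 512 ≤ K.card * T.card := hcard.trans (hBcard ▸ hfib)
  by_cases h4 : T.card ≤ 4
  · have := Nat.mul_le_mul hK64 h4
    omega
  push Not at h4
  have hcases : (∀ s ∈ T, s.1 = o) ∨ (∀ s ∈ T, s.2.2 = o) := by
    by_contra hc
    push Not at hc
    obtain ⟨⟨a, ha, ha1⟩, b, hb, hb1⟩ := hc
    have hsa := (sq_iff a).1 (hTsq a ha)
    have hsb := (sq_iff b).1 (hTsq b hb)
    rcases comm_cases a b (hTmul a ha b hb).2 hsa hsb with h | h
    · exact hb1 h.2
    · exact ha1 h.1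
  obtain ⟨hT16, hK16⟩ : T.card ≤ 16 ∧ K.card ≤ 16 := by
    rcases hcases with hc | hc
    · have ea : ∀ b₁ b₂ c : E4, mulT (o, b₁, c) (o, b₂, c) = (o, b₁ + b₂, o) := by decide +kernel
      have eb : ∀ b c₁ c₂ : E4, mulT (o, b, c₁) (o, b, c₂) = (o, o, c₁ + c₂) := by decide +kernel
      have en : ∀ a b : E4, a + b = o → a = b := by decide
      have hshape : ∀ s ∈ T, s = (o, s.2.1, s.2.2) := fun s hs => Prod.ext (hc s hs) rfl
      obtain ⟨s, hs, u, hu, hne, hsu⟩ := Finset.exists_ne_map_eq_of_card_lt_of_maps_to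
        (s := T) (t := (Finset.univ : Finset E4)) (f := fun s => s.2.2)
        (by simpa [Fintype.card_prod] using h4) (fun _ _ => Finset.mem_univ _)
      obtain ⟨s', hs', u', hu', hne', hsu'⟩ := Finset.exists_ne_map_eq_of_card_lt_of_maps_to
        (s := T) (t := (Finset.univ : Finset E4)) (f := fun s => s.2.1)
        (by simpa [Fintype.card_prod] using h4) (fun _ _ => Finset.mem_univ _)
      have m1 := (hTmul s hs u hu).1
      rw [hshape s hs, hshape u hu] at hne m1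
      rw [hsu, ea] at m1
      have m2 := (hTmul s' hs' u' hu').1
      rw [hshape s' hs', hshape u' hu'] at hne' m2
      rw [hsu', eb] at m2
      refine ⟨le_trans (Finset.card_le_card_of_injOn (fun s => s.2) (t := Finset.univ)
          (fun _ _ => Finset.mem_coe.2 (Finset.mem_univ _))
          (fun a ha b hb h => Prod.ext ((hc a ha).trans (hc b hb).symm) h))
          (by simp [Fintype.card_prod]), ?_⟩
      refine le_trans (Finset.card_le_card
        (Finset.subset_inter (hfix _ m1) (hfix _ m2))) (fix_right _ _ ?_ ?_)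
      · exact fun h => hne (by rw [en _ _ h, hsu])
      · exact fun h => hne' (by rw [en _ _ h, hsu'])
    · have ea : ∀ a b₁ b₂ : E4, mulT (a, b₁, o) (a, b₂, o) = (o, b₁ + b₂, o) := by decide +kernel
      have eb : ∀ a₁ a₂ b : E4, mulT (a₁, b, o) (a₂, b, o) = (a₁ + a₂, o, o) := by decide +kernel
      have en : ∀ a b : E4, a + b = o → a = b := by decide
      have hshape : ∀ s ∈ T, s = (s.1, s.2.1, o) := fun s hs =>
        Prod.ext rfl (Prod.ext rfl (hc s hs))
      obtain ⟨s, hs, u, hu, hne, hsu⟩ := Finset.exists_ne_map_eq_of_card_lt_of_maps_to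
        (s := T) (t := (Finset.univ : Finset E4)) (f := fun s => s.1)
        (by simpa [Fintype.card_prod] using h4) (fun _ _ => Finset.mem_univ _)
      obtain ⟨s', hs', u', hu', hne', hsu'⟩ := Finset.exists_ne_map_eq_of_card_lt_of_maps_to
        (s := T) (t := (Finset.univ : Finset E4)) (f := fun s => s.2.1)
        (by simpa [Fintype.card_prod] using h4) (fun _ _ => Finset.mem_univ _)
      have m1 := (hTmul s hs u hu).1
      rw [hshape s hs, hshape u hu] at hne m1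
      rw [hsu, ea] at m1
      have m2 := (hTmul s' hs' u' hu').1
      rw [hshape s' hs', hshape u' hu'] at hne' m2
      rw [hsu', eb] at m2
      refine ⟨le_trans (Finset.card_le_card_of_injOn (fun s => (s.1, s.2.1)) (t := Finset.univ)
          (fun _ _ => Finset.mem_coe.2 (Finset.mem_univ _))
          (fun a ha b hb h => by
            rw [hshape a ha, hshape b hb]
            simp only [Prod.mk.injEq] at h ⊢
            exact ⟨h.1, h.2, trivial⟩))
          (by simp [Fintype.card_prod]), ?_⟩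
      refine le_trans (Finset.card_le_card
        (Finset.subset_inter (hfix _ m2) (hfix _ m1))) (fix_left _ _ ?_ ?_)
      · exact fun h => hne' (by rw [en _ _ h, hsu'])
      · exact fun h => hne (by rw [en _ _ h, hsu])
  have := Nat.mul_le_mul hK16 hT16
  omega

/-- Every involution of the Sylow subgroup is conjugate into the root subgroup. -/
theorem conj' {y : G6} (hy : y ∈ X.S') (hsq : y * y = 1) : ∃ g : G6, g * y * g⁻¹ ∈ X.E' := by
  obtain ⟨⟨p, t⟩, rfl⟩ := hy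
  by_cases h1 : t = (o, o, o)
  · exact ⟨1, by rw [one_mul, inv_one, mul_one, h1, X.UL_left]; exact ⟨p, rfl⟩⟩
  have ht : mulT t t = (o, o, o) := by
    obtain ⟨q', -, e⟩ := X.UL_mul p p t t
    rw [hsq, ← X.UL_one] at e
    exact (X.UL_inj e).2.symm
  obtain ⟨k, hk, hke⟩ := X.exists_base ht h1
  obtain ⟨q, hq⟩ := hk p
  have e1 : k * X.UL (p, t) * k⁻¹ = X.UL (q, t₀) := by
    show k * (X.U p * X.L t) * k⁻¹ = X.U q * X.L t₀
    rw [← hke, ← mul_assoc k, hq]
    group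
  have h2 : X.UL (q, t₀) * X.UL (q, t₀) = 1 := by
    rw [← e1, show k * X.UL (p, t) * k⁻¹ * (k * X.UL (p, t) * k⁻¹) =
      k * (X.UL (p, t) * X.UL (p, t)) * k⁻¹ by group, hsq, mul_one, mul_inv_cancel]
  obtain ⟨q', hq', e⟩ := X.UL_mul q q t₀ t₀
  rw [h2, ← X.UL_one] at e
  have h3 : herm q + act (hM t₀) (herm q) = z3 := by
    have e0 : (0 : P9) = q + q' := (X.UL_inj e).1
    rw [← hq', ← herm_add, ← e0, herm_zero]
  obtain ⟨e', he, rfl⟩ := List.mem_map.1 (xcert_cover q h3)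
  obtain ⟨hc, -⟩ := xcert_ok e' he
  have hcd : X.cd (X.UL (e'.1, t₀)) = X.toB (mulB (uB (herm e'.1)) (lB t₀)) := by
    rw [UL, X.cd_mul, X.cd_L, X.cd_U, X.toB_mul]
    simp [toB, uB, X.toM_one, X.toM_zero]
  obtain ⟨k₂, -, hk₂⟩ := X.exists_conjW e'.2.1 _ _ hcd
  refine ⟨k₂ * k, e'.2.2, X.cd_inj ?_⟩
  have e2 : k₂ * k * X.UL (p, t) * (k₂ * k)⁻¹ = k₂ * (k * X.UL (p, t) * k⁻¹) * k₂⁻¹ := by group
  rw [e2, e1, hk₂, hc, X.cd_U]
  simp [toB, uB, X.toM_one, X.toM_zero]

/-! ### The classes -/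

/-- The list of a class. -/
abbrev cl (i : Fin 3) : List (P9 × ℕ × ℕ) := cls.getD i []

theorem code_injective {p q : P9} (h : code p = code q) : p = q := by
  rw [code_inj p, code_inj q, h]

theorem cl_nodup (i : Fin 3) : ((cl i).map fun e => e.1).Nodup := by
  have h := cls_nodup
  rw [List.map_append, List.map_append, List.nodup_append, List.nodup_append] at h
  obtain ⟨⟨h0, h1, -⟩, h2, -⟩ := h
  have key : ∀ L : List (P9 × ℕ × ℕ), (L.map fun e => code e.1).Nodup →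
      (L.map fun e => e.1).Nodup := by
    intro L hL
    refine List.Nodup.of_map code ?_
    rwa [List.map_map]
  fin_cases i
  exacts [key _ h0, key _ h1, key _ h2]

theorem cl_disjoint {i j : Fin 3} (hij : i ≠ j) {p : P9} (hi : p ∈ (cl i).map fun e => e.1)
    (hj : p ∈ (cl j).map fun e => e.1) : False := by
  have h := cls_nodup
  rw [List.map_append, List.map_append, List.nodup_append, List.nodup_append] at h
  obtain ⟨⟨-, -, h01⟩, -, h2⟩ := h
  have key : ∀ L : List (P9 × ℕ × ℕ), p ∈ (L.map fun e => e.1) →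
      code p ∈ L.map fun e => code e.1 := by
    intro L hL
    obtain ⟨e, he, rfl⟩ := List.mem_map.1 hL
    exact List.mem_map.2 ⟨e, he, rfl⟩
  have a := key _ hi
  have b := key _ hj
  fin_cases i <;> fin_cases j
  all_goals first
    | exact hij rfl
    | exact h01 _ a _ b rfl
    | exact h01 _ b _ a rfl
    | exact h2 _ (List.mem_append_left _ a) _ b rfl
    | exact h2 _ (List.mem_append_left _ b) _ a rfl
    | exact h2 _ (List.mem_append_right _ a) _ b rfl
    | exact h2 _ (List.mem_append_right _ b) _ a rfl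

theorem cl_mem_append {i : Fin 3} {e : P9 × ℕ × ℕ} (he : e ∈ cl i) :
    e ∈ cls0 ++ cls1 ++ cls2 := by
  fin_cases i
  exacts [List.mem_append_left _ (List.mem_append_left _ he),
    List.mem_append_left _ (List.mem_append_right _ he), List.mem_append_right _ he]

/-- The root of a class. -/
abbrev root (i : Fin 3) : P9 := ((cl i).getD 0 (((0, 0, 0), o, o, o), 0, 0)).1

theorem from_root (i : Fin 3) : ∀ j : ℕ, ∀ hj : j < (cl i).length,
    ∃ g ∈ X.N, g * X.U (root i) = X.U ((cl i)[j]).1 * g := by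
  intro j
  induction j using Nat.strong_induction_on with
  | _ j ih =>
    intro hj
    by_cases h0 : j = 0
    · subst h0
      refine ⟨1, X.N.one_mem, ?_⟩
      rw [one_mul, mul_one, root, List.getD_eq_getElem _ _ hj]
    obtain ⟨hlt, h3, h15, hact⟩ := cls_tree i ⟨j, hj⟩ h0
    simp only [Fin.getElem_fin] at hlt h3 h15 hact
    obtain ⟨g, hg, e⟩ := ih _ hlt (hlt.trans hj)
    obtain ⟨q, hq, eq⟩ := X.G_conj h3 h15 ((cl i)[((cl i)[j]).2.1]'(hlt.trans hj)).1
    rw [List.getD_eq_getElem _ _ (hlt.trans hj)] at hact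
    rw [herm_inj (hq.trans hact)] at eq
    refine ⟨X.G ((cl i)[j]).2.2 * g, mul_mem (X.G_mem_N h3 h15) hg, ?_⟩
    rw [mul_assoc, e, ← mul_assoc, eq, mul_assoc]

theorem orbit {i : Fin 3} {p : P9} (hp : p ∈ (cl i).map fun e => e.1) :
    ∃ g ∈ X.N, g * X.U (root i) * g⁻¹ = X.U p := by
  obtain ⟨e, he, rfl⟩ := List.mem_map.1 hp
  obtain ⟨j, hj, rfl⟩ := List.mem_iff_getElem.1 he
  obtain ⟨g, hg, e⟩ := X.from_root i j hj
  exact ⟨g, hg, by rw [e, mul_inv_cancel_right]⟩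

/-! ### The Levi parts -/

/-- First root part. -/
noncomputable def R₁ : Subgroup G6 where
  carrier := Set.range fun a : E4 => X.L (a, o, o)
  mul_mem' := by
    rintro _ _ ⟨a, rfl⟩ ⟨b, rfl⟩
    have h : ∀ x y : E4, mulT (x, o, o) (y, o, o) = (x + y, o, o) := by decide +kernel
    exact ⟨a + b, ((X.L_mul _ _).trans (congrArg X.L (h a b))).symm⟩
  one_mem' := ⟨o, X.L_zero⟩
  inv_mem' := by
    rintro _ ⟨a, rfl⟩
    have h : ∀ x : E4, mulT (x, o, o) (x, o, o) = (o, o, o) := by decide +kernel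
    exact ⟨a, (inv_eq_of_mul_eq_one_right ((X.L_mul _ _).trans ((congrArg X.L (h a)).trans
      X.L_zero))).symm⟩

/-- Second root part. -/
noncomputable def R₂ : Subgroup G6 where
  carrier := Set.range fun b : E4 × E4 => X.L (o, b)
  mul_mem' := by
    rintro _ _ ⟨a, rfl⟩ ⟨b, rfl⟩
    have h : ∀ x y : E4 × E4, mulT (o, x) (o, y) = (o, x + y) := by decide +kernel
    exact ⟨a + b, ((X.L_mul _ _).trans (congrArg X.L (h a b))).symm⟩
  one_mem' := ⟨(o, o), X.L_zero⟩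
  inv_mem' := by
    rintro _ ⟨a, rfl⟩
    have h : ∀ x : E4 × E4, mulT (o, x) (o, x) = (o, o, o) := by decide +kernel
    exact ⟨a, (inv_eq_of_mul_eq_one_right ((X.L_mul _ _).trans ((congrArg X.L (h a)).trans
      X.L_zero))).symm⟩

theorem R₁_le : X.R₁ ≤ X.S' := by rintro _ ⟨a, rfl⟩; exact X.L_mem _

theorem R₂_le : X.R₂ ≤ X.S' := by rintro _ ⟨a, rfl⟩; exact X.L_mem _

theorem L_injective : Function.Injective X.L := fun s t h =>
  (X.UL_inj (p := 0) (q := 0) (by rw [h])).2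

theorem R_card : Nat.card X.R₁ * Nat.card X.R₂ = 64 := by
  have c₁ : Nat.card X.R₁ = Nat.card E4 :=
    Nat.card_range_of_injective (f := fun a : E4 => X.L (a, o, o)) fun a b h =>
      (Prod.mk.inj (X.L_injective h)).1
  have c₂ : Nat.card X.R₂ = Nat.card (E4 × E4) :=
    Nat.card_range_of_injective (f := fun b : E4 × E4 => X.L (o, b)) fun a b h =>
      (Prod.mk.inj (X.L_injective h)).2
  rw [c₁, c₂]
  simp [Nat.card_eq_fintype_card]

theorem R₁_conj : ∃ g : G6, ∀ x ∈ X.R₁, g * x * g⁻¹ ∈ X.E' := by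
  refine ⟨X.G 1, ?_⟩
  rintro _ ⟨a, rfl⟩
  obtain ⟨p, hp⟩ := root_left a
  refine ⟨p, X.cd_inj ?_⟩
  rw [X.G_inv, X.cd_mul, X.cd_mul, X.cd_G, X.cd_L, ← X.toB_mul, ← X.toB_mul, hp, X.cd_U]
  simp [toB, uB, X.toM_one, X.toM_zero]

theorem R₂_conj : ∃ g : G6, ∀ x ∈ X.R₂, g * x * g⁻¹ ∈ X.E' := by
  refine ⟨X.G 2, ?_⟩
  rintro _ ⟨⟨b, c⟩, rfl⟩
  obtain ⟨p, hp⟩ := root_right b c
  refine ⟨p, X.cd_inj ?_⟩
  rw [X.G_inv, X.cd_mul, X.cd_mul, X.cd_G, X.cd_L, ← X.toB_mul, ← X.toB_mul, hp, X.cd_U]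
  simp [toB, uB, X.toM_one, X.toM_zero]

theorem R_norm : ∀ b ∈ X.R₁, ∀ x ∈ X.R₂, b * x * b⁻¹ ∈ X.R₂ := by
  rintro _ ⟨a, rfl⟩ _ ⟨⟨b, c⟩, rfl⟩
  have h : ∀ x : E4, mulT (x, o, o) (x, o, o) = (o, o, o) := by decide +kernel
  obtain ⟨b', c', e⟩ := root_norm a b c
  refine ⟨(b', c'), ?_⟩
  show X.L (o, b', c') = X.L (a, o, o) * X.L (o, b, c) * (X.L (a, o, o))⁻¹
  rw [inv_eq_of_mul_eq_one_right (by rw [X.L_mul, h a, X.L_zero] :
      X.L (a, o, o) * X.L (a, o, o) = 1), X.L_mul, X.L_mul, e]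

theorem UL_split (x : P9 × U3) :
    ∃ b ∈ X.R₂, ∃ a ∈ X.R₁, X.UL x = X.U x.1 * b * a := by
  obtain ⟨b, hb⟩ := root_split x.2
  refine ⟨_, ⟨(b, x.2.2.2), rfl⟩, _, ⟨x.2.1, rfl⟩, ?_⟩
  show X.U x.1 * X.L x.2 = X.U x.1 * X.L (o, b, x.2.2.2) * X.L (x.2.1, o, o)
  rw [mul_assoc, X.L_mul, ← hb]

/-! ### The quotient -/

/-- The projection. -/
noncomputable def π (_X : Setup F) : G6 →* Cfsg.PSU 6 F 2 := QuotientGroup.mk' (Subgroup.center G6)

theorem π_surjective : Function.Surjective X.π := QuotientGroup.mk'_surjective _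

theorem π_one {x : G6} (hx : x ∈ X.S') (h : X.π x = 1) : x = 1 := by
  have hc : x ∈ Subgroup.center G6 := (QuotientGroup.eq_one_iff x).1 h
  have h3 : orderOf x ∣ 3 := by
    have := orderOf_dvd_natCard (⟨x, hc⟩ : Subgroup.center G6)
    rwa [natCard_center X.card (by norm_num), Subgroup.orderOf_mk] at this
  have h2 : orderOf x ∣ 2 ^ 15 := by
    have := orderOf_dvd_natCard (⟨x, hx⟩ : X.S')
    rwa [X.card_S', Subgroup.orderOf_mk] at this
  exact orderOf_eq_one_iff.1 (Nat.eq_one_of_dvd_coprimes (by norm_num) h3 h2)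

theorem π_injOn {x y : G6} (hx : x ∈ X.S') (hy : y ∈ X.S') (h : X.π x = X.π y) : x = y :=
  inv_mul_eq_one.1 (X.π_one (mul_mem (inv_mem hx) hy)
    (by rw [map_mul, map_inv, h, inv_mul_cancel]))

theorem card_map {K : Subgroup G6} (hK : K ≤ X.S') : Nat.card (K.map X.π) = Nat.card K := by
  symm
  refine Nat.card_congr (Equiv.ofBijective
    (fun x : K => (⟨X.π x.1, Subgroup.mem_map_of_mem _ x.2⟩ : K.map X.π)) ⟨?_, ?_⟩)
  · intro a b h
    exact Subtype.ext (X.π_injOn (hK a.2) (hK b.2) (congrArg Subtype.val h))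
  · rintro ⟨_, x, hx, rfl⟩
    exact ⟨⟨x, hx⟩, rfl⟩

include X in
theorem card_PSU : Nat.card (Cfsg.PSU 6 F 2) = 9196830720 := by
  have h := natCard_PSU_mul (n := 6) (q := 2) (F := F) X.card (by norm_num)
  rw [natCard_GU X.card, show Nat.gcd 6 (2 + 1) = 3 from rfl] at h
  simp [Finset.prod_range_succ, Nat.even_iff] at h
  omega

theorem index_S : (X.S'.map X.π).index = 280665 := by
  have h := (X.S'.map X.π).card_mul_index
  rw [X.card_map le_rfl, X.card_S', X.card_PSU] at h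
  omega

/-- The classes in the quotient. -/
def O (i : Fin 3) : Set (Cfsg.PSU 6 F 2) :=
  (fun p => X.π (X.U p)) '' {p | p ∈ (cl i).map fun e => e.1}

theorem πU_injective : Function.Injective fun p => X.π (X.U p) := fun p q h =>
  X.U_inj (X.π_injOn (X.U_mem p) (X.U_mem q) h)

/-- The facts on the quotient. -/
noncomputable def data : Data (Cfsg.PSU 6 F 2) where
  E := X.E'.map X.π
  S := X.S'.map X.π
  B₁ := X.R₁.map X.π
  B₂ := X.R₂.map X.π
  O := X.O
  E_le := Subgroup.map_mono X.E'_le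
  E_sq := by
    rintro _ ⟨_, ⟨p, rfl⟩, rfl⟩
    rw [← map_mul, X.U_sq, map_one]
  E_card := by rw [X.card_map X.E'_le, X.card_E']
  S_card := by rw [X.card_map le_rfl, X.card_S']
  S_odd := by rw [X.index_S]; norm_num
  max := by
    intro B hle hsq hcard
    have hB : (B.comap X.π ⊓ X.S').map X.π = B := by
      refine le_antisymm ?_ fun b hb => ?_
      · rintro _ ⟨x, hx, rfl⟩
        exact hx.1
      · obtain ⟨y, hy, rfl⟩ := hle hb
        exact ⟨y, ⟨hb, hy⟩, rfl⟩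
    have h := X.max' (B.comap X.π ⊓ X.S') inf_le_right (fun x hx =>
      X.π_one (mul_mem hx.2 hx.2) (by rw [map_mul]; exact hsq _ hx.1))
      (by rw [← X.card_map inf_le_right, hB]; exact hcard)
    rw [← hB, h]
  conj_into := by
    intro x hx
    haveI : Finite (Cfsg.PSU 6 F 2) := Nat.finite_of_card_ne_zero (by rw [X.card_PSU]; norm_num)
    haveI : Fact (Nat.Prime 2) := ⟨Nat.prime_two⟩
    have hp : IsPGroup 2 (Subgroup.zpowers x) := by
      refine IsPGroup.iff_card.2 ?_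
      rw [Nat.card_zpowers]
      have hd : orderOf x ∣ 2 := orderOf_dvd_of_pow_eq_one (by rw [pow_two, hx])
      obtain ⟨k, -, hk⟩ := (Nat.dvd_prime_pow Nat.prime_two).1 (by rwa [pow_one] : orderOf x ∣ 2 ^ 1)
      exact ⟨k, hk⟩
    obtain ⟨P, hP⟩ := hp.exists_le_sylow
    have hS : IsPGroup 2 (X.S'.map X.π) :=
      IsPGroup.iff_card.2 ⟨15, by rw [X.card_map le_rfl, X.card_S']⟩
    set P₀ : Sylow 2 (Cfsg.PSU 6 F 2) := hS.toSylow (by rw [X.index_S]; norm_num) with hP₀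
    obtain ⟨g, hg⟩ := MulAction.exists_smul_eq (Cfsg.PSU 6 F 2) P P₀
    have hmem : g * x * g⁻¹ ∈ X.S'.map X.π := by
      have h1 : g * x * g⁻¹ ∈ ((g • P : Sylow 2 _) : Subgroup (Cfsg.PSU 6 F 2)) := by
        rw [Sylow.coe_subgroup_smul]
        exact ⟨x, hP (Subgroup.mem_zpowers x), by simp [MulAut.conj_apply]⟩
      rw [hg] at h1
      exact h1
    obtain ⟨y, hy, hyx⟩ := hmem
    have hy2 : y * y = 1 := X.π_one (mul_mem hy hy) (by
      rw [map_mul, hyx, show g * x * g⁻¹ * (g * x * g⁻¹) = g * (x * x) * g⁻¹ by group, hx, mul_one,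
        mul_inv_cancel])
    obtain ⟨k, hk⟩ := X.conj' hy hy2
    refine ⟨X.π k * g, _, hk, ?_⟩
    rw [map_mul, map_mul, map_inv, hyx]
    group
  O_sub := by
    rintro i _ ⟨p, hp, rfl⟩
    refine ⟨⟨_, ⟨p, rfl⟩, rfl⟩, fun h => ?_⟩
    have h' : p = 0 := X.πU_injective (by
      show X.π (X.U p) = X.π (X.U 0)
      rw [X.U_zero, map_one]; exact h)
    obtain ⟨e, he, rfl⟩ := List.mem_map.1 hp
    exact herm_nonzero e (cl_mem_append he) (by rw [h', herm_zero])
  O_cover := by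
    rintro _ ⟨_, ⟨p, rfl⟩, rfl⟩ h1
    rcases cls_cover p with h | h
    · exact absurd (by rw [herm_inj (h.trans herm_zero.symm), X.U_zero, map_one]) h1
    obtain ⟨e, he, hc⟩ := List.mem_map.1 h
    have hep := code_injective hc
    rcases List.mem_append.1 he with he | he
    · rcases List.mem_append.1 he with he | he
      · exact ⟨0, p, List.mem_map.2 ⟨e, he, hep⟩, rfl⟩
      · exact ⟨1, p, List.mem_map.2 ⟨e, he, hep⟩, rfl⟩
    · exact ⟨2, p, List.mem_map.2 ⟨e, he, hep⟩, rfl⟩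
  O_card := by
    intro i
    classical
    rw [O, Set.ncard_image_of_injective _ X.πU_injective,
      show {p | p ∈ (cl i).map fun e => e.1} = (((cl i).map fun e => e.1).toFinset : Set P9) by
        ext; simp,
      Set.ncard_coe_finset, List.toFinset_card_of_nodup (cl_nodup i), List.length_map]
    have h := cls_codes i
    rw [List.length_map] at h
    refine h.trans ?_
    fin_cases i <;> rfl
  O_disj := by
    intro i j hij
    refine Set.disjoint_left.2 ?_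
    rintro _ ⟨p, hp, rfl⟩ ⟨q, hq, e⟩
    exact cl_disjoint hij hp (X.πU_injective e ▸ hq)
  O_trans := by
    rintro i _ ⟨p, hp, rfl⟩ _ ⟨q, hq, rfl⟩
    obtain ⟨g, hg, eg⟩ := X.orbit hp
    obtain ⟨k, hk, ek⟩ := X.orbit hq
    refine ⟨X.π (k * g⁻¹), ?_, ?_⟩
    · rintro _ ⟨z, hz, rfl⟩
      exact ⟨_, X.N_conj (mul_mem hk (inv_mem hg)) hz, by simp [map_mul]⟩
    · show _ = X.π (X.U q)
      rw [← map_inv, ← map_mul, ← map_mul, ← eg, ← ek]
      congr 1
      group
  O_sq := by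
    rintro i hi _ ⟨p, hp, rfl⟩
    obtain ⟨g, hg, eg⟩ := X.orbit hp
    have key : ∀ j : Fin 2, ∃ y, y * y = X.U (root (Fin.castSucc j)) := by
      intro j
      obtain ⟨q, t, ht, hq⟩ := sq_reps j
      refine ⟨X.UL (q, t), ?_⟩
      obtain ⟨q', hq', e⟩ := X.UL_mul q q t t
      rw [e, ht, X.UL_left]
      congr 1
      refine herm_inj ?_
      rw [herm_add, hq', hq]
      fin_cases j <;> rfl
    obtain ⟨y, hy⟩ : ∃ y, y * y = X.U (root i) := by
      fin_cases i
      exacts [key 0, key 1, absurd rfl hi]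
    refine ⟨X.π (g * y * g⁻¹), ?_⟩
    show _ = X.π (X.U p)
    rw [← map_mul, ← eg, ← hy]
    congr 1
    group
  B₁_conj := by
    obtain ⟨g, hg⟩ := X.R₁_conj
    refine ⟨X.π g, ?_⟩
    rintro _ ⟨x, hx, rfl⟩
    exact ⟨_, hg x hx, by simp⟩
  B₂_conj := by
    obtain ⟨g, hg⟩ := X.R₂_conj
    refine ⟨X.π g, ?_⟩
    rintro _ ⟨x, hx, rfl⟩
    exact ⟨_, hg x hx, by simp⟩
  B_norm := by
    rintro _ ⟨b, hb, rfl⟩ _ ⟨x, hx, rfl⟩
    exact ⟨_, X.R_norm b hb x hx, by simp⟩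
  B₁_norm := by
    rintro _ ⟨_, ⟨a, rfl⟩, rfl⟩ _ ⟨x, hx, rfl⟩
    exact ⟨_, X.N_conj (X.L_mem_N (a, o, o)) hx, by simp⟩
  B₂_norm := by
    rintro _ ⟨_, ⟨a, rfl⟩, rfl⟩ _ ⟨x, hx, rfl⟩
    exact ⟨_, X.N_conj (X.L_mem_N (o, a)) hx, by simp⟩
  B_card := by rw [X.card_map X.R₁_le, X.card_map X.R₂_le, X.R_card]
  B_gen := by
    rintro _ ⟨_, ⟨x, rfl⟩, rfl⟩
    obtain ⟨b, hb, a, ha, e⟩ := X.UL_split x
    rw [e, map_mul, map_mul]
    exact mul_mem (Subgroup.mem_sup_left (mul_mem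
      (Subgroup.mem_sup_left ⟨_, ⟨x.1, rfl⟩, rfl⟩)
      (Subgroup.mem_sup_right ⟨b, hb, rfl⟩))) (Subgroup.mem_sup_right ⟨a, ha, rfl⟩)

end Setup

/-- The facts on `PSU(6, 2)`. -/
theorem exists_data {F : Type*} [Field F] [Fintype F] (hF : Fintype.card F = 2 ^ 2) :
    Nonempty (Data (Cfsg.PSU 6 F 2)) := by
  obtain ⟨ω, -, hω, h2⟩ := exists_zeta hF (q := 2) rfl
  exact ⟨(⟨ω, hF, hω, h2⟩ : Setup F).data⟩

end Cfsg.Agent.ThreeTransp.U62Cover.Model
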